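import Groth.Agent.Lib.Helper34.RH.Final
import Groth.Agent.Lib.Helper34.FunFldConstZeta

/-!
# Consequences of the Riemann hypothesis: point count bounds, places of every large prime degree
(helper34)
-/

set_option autoImplicit false

namespace Groth.Agent.Lib.Helper34.RH.Bound

open FunFld Groth.Agent.Lib.Helper34.RH.Reduce Groth.Agent.Lib.Helper34.FunFldZetaLog

variable {k K : Type*} [Field k] [Field K] [Algebra k K] [Finite k]

/-- The full package: integrality, factorisation, functional-equation pairing, Riemann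
hypothesis. -/
theorem exists_factorization_full (hK : IsFunctionField k K) :
    ∃ α : Fin (2 * genus k K) → ℂ, (∀ i, IsIntegral ℤ (α i)) ∧
      PowerSeries.map (Int.castRingHom ℂ) (numerZ k K) =
        ((∏ i, (1 - Polynomial.C (α i) * Polynomial.X) : Polynomial ℂ) : PowerSeries ℂ) ∧
      (∀ i, α i * α (Fin.rev i) = (Nat.card k : ℂ)) ∧
      ∀ i, ‖α i‖ ^ 2 = (Nat.card k : ℝ) := by
  obtain ⟨α, hint, hα, hpair⟩ := Groth.Agent.S11040.result k K hK
  refine ⟨α, hint, hα, hpair, fun i => ?_⟩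
  have hq : (0 : ℝ) < (Nat.card k : ℝ) := by
    have : 0 < Nat.card k := Nat.card_pos
    exact_mod_cast this
  have h1 := norm_sq_le hK α hα i
  have h2 := norm_sq_le hK α hα (Fin.rev i)
  have h3 : ‖α i‖ * ‖α (Fin.rev i)‖ = (Nat.card k : ℝ) := by
    rw [← norm_mul, hpair i, Complex.norm_natCast]
  have h4 : ‖α i‖ ^ 2 * ‖α (Fin.rev i)‖ ^ 2 = (Nat.card k : ℝ) * (Nat.card k : ℝ) := by
    rw [← mul_pow, h3, sq]
  by_contra hne
  have hlt : ‖α i‖ ^ 2 < (Nat.card k : ℝ) := lt_of_le_of_ne h1 hne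
  have h5 : ‖α i‖ ^ 2 * ‖α (Fin.rev i)‖ ^ 2 ≤ ‖α i‖ ^ 2 * (Nat.card k : ℝ) :=
    mul_le_mul_of_nonneg_left h2 (by positivity)
  have h6 : ‖α i‖ ^ 2 * (Nat.card k : ℝ) < (Nat.card k : ℝ) * (Nat.card k : ℝ) :=
    mul_lt_mul_of_pos_right hlt hq
  linarith

lemma sqrt_pow_eq_rpow (q : ℝ) (hq : 0 ≤ q) (r : ℕ) : Real.sqrt q ^ r = q ^ ((r : ℝ) / 2) := by
  rw [Real.sqrt_eq_rpow, ← Real.rpow_natCast, ← Real.rpow_mul hq]
  congr 1
  ring

/-- The Hasse–Weil bound for the numbers `N_r`. -/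
theorem abs_Nr_sub_le (hK : IsFunctionField k K) {r : ℕ} (hr : 1 ≤ r) :
    |(Nr hK r : ℝ) - ((Nat.card k : ℝ) ^ r + 1)| ≤
      2 * (genus k K : ℝ) * (Nat.card k : ℝ) ^ ((r : ℝ) / 2) := by
  obtain ⟨α, hα, hnorm⟩ := Groth.Agent.Lib.Helper34.RH.Final.exists_factorization hK
  have hf := Groth.Agent.Lib.Helper34.FunFldZetaLog2.Nr_formula hK Finset.univ α hα hr
  have hnorm' : ∀ i, ‖α i‖ = Real.sqrt (Nat.card k : ℝ) := by
    intro i
    rw [← hnorm i, Real.sqrt_sq (norm_nonneg _)]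
  have h1 : (((Nr hK r : ℝ) - ((Nat.card k : ℝ) ^ r + 1) : ℝ) : ℂ) = -∑ i, α i ^ r := by
    push_cast
    rw [hf]
    ring
  have h2 : |(Nr hK r : ℝ) - ((Nat.card k : ℝ) ^ r + 1)| = ‖∑ i, α i ^ r‖ := by
    rw [← Real.norm_eq_abs, ← Complex.norm_real, h1, norm_neg]
  rw [h2]
  refine (norm_sum_le _ _).trans ?_
  have h3 : ∀ i ∈ (Finset.univ : Finset (Fin (2 * genus k K))),
      ‖α i ^ r‖ = (Nat.card k : ℝ) ^ ((r : ℝ) / 2) := by
    intro i _
    rw [norm_pow, hnorm' i, sqrt_pow_eq_rpow _ (Nat.cast_nonneg _)]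
  rw [Finset.sum_congr rfl h3, Finset.sum_const, Finset.card_univ, Fintype.card_fin, nsmul_eq_mul]
  push_cast
  exact le_rfl

/-- If there is no place of prime degree `p`, then `N_p = N_1`. -/
lemma Nr_prime_eq (hK : IsFunctionField k K) {p : ℕ} (hp : p.Prime)
    (hno : ∀ P : Place k K, P.deg ≠ p) : Nr hK p = Nr hK 1 := by
  classical
  rw [Nr, Nr]
  have hfilter : (Pl hK p).filter (fun P => P.deg ∣ p) = (Pl hK 1).filter (fun P => P.deg ∣ 1) := by
    ext P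
    simp only [Finset.mem_filter, mem_Pl, Nat.dvd_one]
    constructor
    · rintro ⟨-, hdvd⟩
      rcases (Nat.dvd_prime hp).1 hdvd with h | h
      · exact ⟨h.le, h⟩
      · exact absurd h (hno P)
    · rintro ⟨-, h1⟩
      rw [h1]
      exact ⟨hp.one_le, one_dvd _⟩
  rw [hfilter]

/-- There is a place of every large prime degree. -/
theorem exists_place_deg_prime (hK : IsFunctionField k K) {p : ℕ} (hp : p.Prime)
    (hbig : 2 * (genus k K : ℝ) + Real.sqrt (Nat.card k : ℝ) <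
      (Nat.card k : ℝ) ^ ((p : ℝ) / 2)) : ∃ P : Place k K, P.deg = p := by
  by_contra hcon
  push Not at hcon
  have heq := Nr_prime_eq hK hp hcon
  have h1 := abs_Nr_sub_le hK hp.one_le
  have h2 := abs_Nr_sub_le hK (le_refl 1)
  rw [heq] at h1
  rw [abs_le] at h1 h2
  have hq0 : (0 : ℝ) ≤ (Nat.card k : ℝ) := Nat.cast_nonneg _
  obtain ⟨s, hs⟩ : ∃ s, s = Real.sqrt (Nat.card k : ℝ) := ⟨_, rfl⟩
  obtain ⟨t, ht⟩ : ∃ t, t = (Nat.card k : ℝ) ^ ((p : ℝ) / 2) := ⟨_, rfl⟩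
  have hs2 : s * s = (Nat.card k : ℝ) := by rw [hs]; exact Real.mul_self_sqrt hq0
  have ht2 : t * t = (Nat.card k : ℝ) ^ p := by
    rw [ht, ← Real.rpow_add' hq0 (by
      have : (0 : ℝ) < p := by exact_mod_cast hp.pos
      linarith), ← Real.rpow_natCast]
    congr 1
    ring
  have hs1 : (Nat.card k : ℝ) ^ (((1 : ℕ) : ℝ) / 2) = s := by
    rw [hs, Real.sqrt_eq_rpow]
    norm_num
  rw [hs1] at h2
  rw [← ht] at h1 hbig
  rw [← hs] at hbig
  rw [← ht2] at h1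
  simp only [pow_one] at h2
  rw [← hs2] at h2
  have hs0 : 0 ≤ s := by rw [hs]; exact Real.sqrt_nonneg _
  have hg0 : (0 : ℝ) ≤ (genus k K : ℝ) := Nat.cast_nonneg _
  -- t*t - s*s ≤ 2g(t+s), t - s > 2g
  have hts : 0 < t + s := by linarith
  have hkey : (t - s - 2 * (genus k K : ℝ)) * (t + s) ≤ 0 := by nlinarith
  have hpos : 0 < (t - s - 2 * (genus k K : ℝ)) * (t + s) := mul_pos (by linarith) hts
  linarith

/-- There are two places of coprime degrees. -/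
theorem exists_places_coprime_deg (hK : IsFunctionField k K) :
    ∃ P Q : Place k K, Nat.Coprime P.deg Q.deg := by
  have hq2 : 2 ≤ Nat.card k := Finite.one_lt_card
  obtain ⟨N, hN⟩ : ∃ N : ℕ, 2 * (genus k K : ℝ) + Real.sqrt (Nat.card k : ℝ) <
      (Nat.card k : ℝ) ^ (N : ℝ) := by
    refine ⟨2 * genus k K + Nat.card k + 1, ?_⟩
    have h1 : Real.sqrt (Nat.card k : ℝ) ≤ (Nat.card k : ℝ) := by
      rw [Real.sqrt_le_left (Nat.cast_nonneg _)]
      have : (1 : ℝ) ≤ (Nat.card k : ℝ) := by exact_mod_cast (by omega : 1 ≤ Nat.card k)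
      nlinarith
    have h2 : ((2 * genus k K + Nat.card k + 1 : ℕ) : ℝ) <
        (2 : ℝ) ^ (2 * genus k K + Nat.card k + 1) := by
      exact_mod_cast Nat.lt_two_pow_self
    have h3 : (2 : ℝ) ^ (2 * genus k K + Nat.card k + 1) ≤
        (Nat.card k : ℝ) ^ (2 * genus k K + Nat.card k + 1) := by
      apply pow_le_pow_left₀ (by norm_num)
      exact_mod_cast hq2
    rw [Real.rpow_natCast]
    push_cast at h2 ⊢
    linarith
  have hbig : ∀ p : ℕ, 2 * N ≤ p → 2 * (genus k K : ℝ) + Real.sqrt (Nat.card k : ℝ) <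
      (Nat.card k : ℝ) ^ ((p : ℝ) / 2) := by
    intro p hp
    refine lt_of_lt_of_le hN ?_
    apply Real.rpow_le_rpow_of_exponent_le
    · exact_mod_cast (by omega : 1 ≤ Nat.card k)
    · have : ((2 * N : ℕ) : ℝ) ≤ (p : ℝ) := by exact_mod_cast hp
      push_cast at this
      linarith
  obtain ⟨p₁, hp₁, hp₁'⟩ := Nat.exists_infinite_primes (2 * N)
  obtain ⟨p₂, hp₂, hp₂'⟩ := Nat.exists_infinite_primes (p₁ + 1)
  obtain ⟨P, hP⟩ := exists_place_deg_prime hK hp₁' (hbig p₁ hp₁)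
  obtain ⟨Q, hQ⟩ := exists_place_deg_prime hK hp₂' (hbig p₂ (by omega))
  refine ⟨P, Q, ?_⟩
  rw [hP, hQ, Nat.coprime_primes hp₁' hp₂']
  omega

end Groth.Agent.Lib.Helper34.RH.Bound
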