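import Mathlib

/-!
# Analytic lemma for the Riemann hypothesis

If the power sums `∑ i, α i ^ j` are `O(B ^ j)` then every `‖α i‖ ≤ B`.
-/

namespace Groth.Agent.Lib.Helper34.RH.Analytic

open Polynomial

theorem norm_le_of_power_sums_bounded {m : ℕ} (α : Fin m → ℂ) (B : ℝ) (hB : 0 < B) (C : ℝ)
    (j0 : ℕ) (h : ∀ j, j0 ≤ j → ‖∑ i, α i ^ j‖ ≤ C * B ^ j) (i0 : Fin m) : ‖α i0‖ ≤ B := by
  classical
  by_contra hlt
  push Not at hlt
  obtain ⟨γ0, hγ0⟩ : ∃ γ0, γ0 = α i0 := ⟨_, rfl⟩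
  rw [← hγ0] at hlt
  obtain ⟨p, hp⟩ : ∃ p : Polynomial ℂ,
      p = ∏ i ∈ Finset.univ.filter (fun i => α i ≠ γ0), (X - Polynomial.C (α i)) := ⟨_, rfl⟩
  have hp0 : p.eval γ0 ≠ 0 := by
    rw [hp, Polynomial.eval_prod]
    apply Finset.prod_ne_zero_iff.2
    intro i hi
    simp only [Finset.mem_filter, Finset.mem_univ, true_and] at hi
    simp only [eval_sub, eval_X, eval_C]
    exact sub_ne_zero.2 (Ne.symm hi)
  have hpi : ∀ i, α i ≠ γ0 → p.eval (α i) = 0 := by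
    intro i hi
    rw [hp, Polynomial.eval_prod]
    apply Finset.prod_eq_zero (i := i)
    · simp [hi]
    · simp
  obtain ⟨cnt, hcnt⟩ : ∃ cnt : ℕ, cnt = (Finset.univ.filter (fun i => α i = γ0)).card := ⟨_, rfl⟩
  have hcnt1 : 1 ≤ cnt := by
    rw [hcnt]
    apply Finset.card_pos.2
    exact ⟨i0, by simp [hγ0]⟩
  have key : ∀ j, ∑ a ∈ Finset.range (p.natDegree + 1), p.coeff a * ∑ i, α i ^ (j + a)
      = (cnt : ℂ) * (γ0 ^ j * p.eval γ0) := by
    intro j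
    have h1 : ∑ a ∈ Finset.range (p.natDegree + 1), p.coeff a * ∑ i, α i ^ (j + a)
        = ∑ i, α i ^ j * p.eval (α i) := by
      simp_rw [Finset.mul_sum]
      rw [Finset.sum_comm]
      apply Finset.sum_congr rfl
      intro i _
      rw [Polynomial.eval_eq_sum_range, Finset.mul_sum]
      apply Finset.sum_congr rfl
      intro a _
      rw [pow_add]; ring
    rw [h1]
    have h2 : ∀ i, α i ^ j * p.eval (α i) = if α i = γ0 then γ0 ^ j * p.eval γ0 else 0 := by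
      intro i
      split_ifs with hi
      · rw [hi]
      · rw [hpi i hi, mul_zero]
    simp_rw [h2]
    rw [← Finset.sum_filter, Finset.sum_const, hcnt, nsmul_eq_mul]
  obtain ⟨D, hD⟩ : ∃ D : ℝ, D = C * ∑ a ∈ Finset.range (p.natDegree + 1), ‖p.coeff a‖ * B ^ a :=
    ⟨_, rfl⟩
  have hbound : ∀ j, j0 ≤ j → ‖γ0‖ ^ j * ‖p.eval γ0‖ ≤ B ^ j * D := by
    intro j hj
    have h1 : ‖(cnt : ℂ) * (γ0 ^ j * p.eval γ0)‖ ≤ B ^ j * D := by
      rw [← key j]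
      refine (norm_sum_le _ _).trans ?_
      rw [hD, Finset.mul_sum, Finset.mul_sum]
      apply Finset.sum_le_sum
      intro a _
      rw [norm_mul]
      have h2 := h (j + a) (by omega)
      calc ‖p.coeff a‖ * ‖∑ i, α i ^ (j + a)‖ ≤ ‖p.coeff a‖ * (C * B ^ (j + a)) :=
            mul_le_mul_of_nonneg_left h2 (norm_nonneg _)
        _ = B ^ j * (C * (‖p.coeff a‖ * B ^ a)) := by rw [pow_add]; ring
    refine le_trans ?_ h1
    rw [norm_mul, norm_mul, norm_pow, Complex.norm_natCast]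
    have h3 : (0:ℝ) ≤ ‖γ0‖ ^ j * ‖p.eval γ0‖ := by positivity
    have h4 : (1:ℝ) ≤ (cnt : ℝ) := by exact_mod_cast hcnt1
    nlinarith
  have hpos : 0 < ‖p.eval γ0‖ := norm_pos_iff.2 hp0
  have hr : 1 < ‖γ0‖ / B := by rw [one_lt_div hB]; exact hlt
  obtain ⟨n, hn⟩ := pow_unbounded_of_one_lt (D / ‖p.eval γ0‖) hr
  have h5 := hbound (n + j0) (by omega)
  have h6 : (‖γ0‖ / B) ^ (n + j0) ≤ D / ‖p.eval γ0‖ := by
    rw [div_pow, div_le_div_iff₀ (pow_pos hB _) hpos]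
    linarith
  have h7 : (‖γ0‖ / B) ^ n ≤ (‖γ0‖ / B) ^ (n + j0) :=
    pow_le_pow_right₀ hr.le (by omega)
  linarith

/-- Version for even exponents: if `‖∑ α_i^(2j)‖ ≤ C q^j` for all large `j` then
`‖α_i‖^2 ≤ q`. -/
theorem norm_sq_le_of_even_power_sums_bounded {m : ℕ} (α : Fin m → ℂ) (q : ℝ) (hq : 0 < q)
    (C : ℝ) (j0 : ℕ) (h : ∀ j, j0 ≤ j → ‖∑ i, α i ^ (2 * j)‖ ≤ C * q ^ j) (i0 : Fin m) :
    ‖α i0‖ ^ 2 ≤ q := by
  have := norm_le_of_power_sums_bounded (fun i => α i ^ 2) q hq C j0 (by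
    intro j hj
    simp_rw [← pow_mul]
    exact h j hj) i0
  simpa [norm_pow] using this

end Groth.Agent.Lib.Helper34.RH.Analytic
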