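import Groth.Agent.Lib.Helper34.RH.Count
import Groth.Agent.Lib.Helper34.FunFldFrobFix
import Groth.Agent.Lib.Helper34.FunFldConstZeta

/-!
# Places of a constant field extension fixed by a power of Frobenius (helper34)

`Y'/k'` the constant field extension of `Y/k` of degree `N`, `φ` the ring automorphism of `Y'`
which is the `q^n`-power map on `k'` and the identity on `Y`.  A place `P'` of `Y'` of degree one
is fixed by `φ` iff the place `P` of `Y` below has `deg P ∣ n`; and the number of fixed places of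
degree one is `N_n(Y) = ∑_{deg P ∣ n} deg P`.
-/

set_option autoImplicit false

namespace Groth.Agent.Lib.Helper34.RH.FixedY

open FunFld WithZero Groth.Agent.Lib.Helper88 Groth.Agent.Lib.Helper88.FF
  Groth.Agent.Lib.Helper44.FFExt Groth.Agent.Lib.Helper34.FunFldIntFin
  Groth.Agent.Lib.Helper34.FunFldNonsing Groth.Agent.Lib.Helper34.FunFldZetaSplit
  Groth.Agent.Lib.Helper34.FunFldInsepUnique Groth.Agent.Lib.Helper34.FunFldConstFin
  Groth.Agent.Lib.Helper34.FunFldFrobFix Groth.Agent.Lib.Helper34.FunFldZetaLog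
  Groth.Agent.Lib.Helper34.RH.Count
open scoped TensorProduct

section finite

variable {k : Type*} [Field k] [Finite k]

/-- If `x ↦ x ^ q ^ n` is the identity on a finite extension `F` of `k` then `[F : k] ∣ n`. -/
lemma dvd_of_pow_eq {F : Type*} [Field F] [Algebra k F] [Module.Finite k F] {n : ℕ}
    (h : ∀ a : F, a ^ (Nat.card k ^ n) = a) : Module.finrank k F ∣ n := by
  have hd : 0 < Module.finrank k F := Module.finrank_pos
  have hr : ∀ a : F, a ^ (Nat.card k ^ (n % Module.finrank k F)) = a := by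
    intro a
    have h1 := h a
    rw [← Nat.div_add_mod n (Module.finrank k F), pow_add, pow_mul] at h1
    rwa [pow_card_pow_eq (Dvd.intro _ rfl)] at h1
  by_contra hcon
  have hne : n % Module.finrank k F ≠ 0 := fun h0 => hcon (Nat.dvd_of_mod_eq_zero h0)
  have := finrank_le_of_pow_eq hne hr
  have := Nat.mod_lt n hd
  omega

end finite

section val

variable {R : Type*} [CommRing R] {Γ₀ : Type*} [LinearOrderedCommGroupWithZero Γ₀]

lemma val_pow_sub_pow_lt (v : Valuation R Γ₀) {a b : R} (ha : v a ≤ 1) (hb : v b ≤ 1)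
    (hab : v (a - b) < 1) (m : ℕ) : v (a ^ m - b ^ m) < 1 := by
  induction m with
  | zero => simp
  | succ m ih =>
    have h1 : a ^ (m + 1) - b ^ (m + 1) = a * (a ^ m - b ^ m) + (a - b) * b ^ m := by ring
    rw [h1]
    refine lt_of_le_of_lt (v.map_add _ _) (max_lt ?_ ?_)
    · rw [map_mul]
      calc v a * v (a ^ m - b ^ m) ≤ 1 * v (a ^ m - b ^ m) := mul_le_mul' ha le_rfl
        _ = v (a ^ m - b ^ m) := one_mul _
        _ < 1 := ih
    · rw [map_mul, map_pow]
      calc v (a - b) * v b ^ m ≤ v (a - b) * 1 := mul_le_mul' le_rfl (pow_le_one₀ zero_le' hb)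
        _ = v (a - b) := mul_one _
        _ < 1 := hab

end val

variable {k k' Y Y' : Type*} [Field k] [Field k'] [Field Y] [Field Y']
  [Algebra k k'] [Algebra k Y] [Algebra Y Y'] [Algebra k' Y'] [Algebra k Y']
  [IsScalarTower k k' Y'] [IsScalarTower k Y Y'] [Finite k] [Finite k'] [FiniteDimensional Y Y']

section fixed

attribute [-instance] IsLocalRing.ResidueField.algebra IsLocalRing.instModuleResidueFieldOfAlgebra

variable {n : ℕ} (φY : Y' ≃+* Y')
  (hφ1 : ∀ c : k', φY (algebraMap k' Y' c) = algebraMap k' Y' (c ^ (Nat.card k ^ n)))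
  (hφ2 : ∀ y : Y, φY (algebraMap Y Y' y) = algebraMap Y Y' y)

include hφ1 hφ2 in
/-- A fixed place of degree one lies over a place of degree dividing `n`. -/
theorem deg_dvd_of_fixed (hY : IsFunctionField k Y) (P' : Place k' Y') (hdeg : P'.deg = 1)
    (hfix : ∀ z, P'.1 (φY z) = P'.1 z) : (below (k := k) (K := Y) P').deg ∣ n := by
  have hover := below_spec (k := k) (K := Y) P'
  haveI : Module.Finite k (IsLocalRing.ResidueField (below (k := k) (K := Y) P').O) :=
    finiteDimensional_residueField hY _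
  apply dvd_of_pow_eq
  intro y
  obtain ⟨x, rfl⟩ := IsLocalRing.residue_surjective y
  rw [← map_pow, ← sub_eq_zero, ← map_sub, IsLocalRing.residue_eq_zero_iff,
    Valuation.mem_maximalIdeal_iff]
  have ha : P'.1 (algebraMap Y Y' (x : Y)) ≤ 1 := val_algebraMap_le_one hover x.2
  obtain ⟨c, hc⟩ := exists_const_of_deg_one hdeg ha
  have h2 : P'.1 (algebraMap Y Y' (x : Y) - algebraMap k' Y' (c ^ (Nat.card k ^ n))) < 1 := by
    have := hfix (algebraMap Y Y' (x : Y) - algebraMap k' Y' c)
    rw [map_sub, hφ2, hφ1] at this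
    rw [this]
    exact hc
  have h3 : c ^ (Nat.card k ^ n) = c := by
    by_contra hne
    have h5 : P'.1 (algebraMap k' Y' (c - c ^ (Nat.card k ^ n))) = 1 :=
      val_const P' (sub_ne_zero.2 (Ne.symm hne))
    have h4 : algebraMap k' Y' (c - c ^ (Nat.card k ^ n)) =
        (algebraMap Y Y' (x : Y) - algebraMap k' Y' (c ^ (Nat.card k ^ n))) -
          (algebraMap Y Y' (x : Y) - algebraMap k' Y' c) := by
      rw [map_sub]
      ring
    rw [h4] at h5
    have := lt_of_le_of_lt (Valuation.map_sub P'.1 _ _) (max_lt h2 hc)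
    exact absurd h5 (ne_of_lt this)
  have h6 : P'.1 (algebraMap Y Y' (x : Y) ^ (Nat.card k ^ n) - algebraMap Y Y' (x : Y)) < 1 := by
    have h7 := val_pow_sub_pow_lt P'.1 ha (P'.2.1 c) hc (Nat.card k ^ n)
    rw [← map_pow (algebraMap k' Y'), h3] at h7
    have h8 : algebraMap Y Y' (x : Y) ^ (Nat.card k ^ n) - algebraMap Y Y' (x : Y) =
        (algebraMap Y Y' (x : Y) ^ (Nat.card k ^ n) - algebraMap k' Y' c) -
          (algebraMap Y Y' (x : Y) - algebraMap k' Y' c) := by ring
    rw [h8]
    exact lt_of_le_of_lt (Valuation.map_sub P'.1 _ _) (max_lt h7 hc)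
  have h9 : (toK (k := k) P').1 (algebraMap Y Y' ((x : Y) ^ (Nat.card k ^ n) - (x : Y))) < 1 := by
    rw [map_sub, map_pow]
    exact h6
  rw [val_algebraMap_of_isOver hover] at h9
  by_contra hcon
  push Not at hcon
  exact absurd h9 (not_lt.2 (one_le_pow₀ hcon))

include hφ1 hφ2 in
/-- A place of degree one over a place of degree dividing `n` is fixed. -/
theorem fixed_of_deg_dvd (hrank : Module.finrank Y Y' = Module.finrank k k')
    (hY : IsFunctionField k Y) (P' : Place k' Y')
    (hd : (below (k := k) (K := Y) P').deg ∣ n) (z : Y') : P'.1 (φY z) = P'.1 z := by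
  classical
  obtain ⟨P, hPdef⟩ : ∃ P : Place k Y, P = below (k := k) (K := Y) P' := ⟨_, rfl⟩
  rw [← hPdef] at hd
  have hover : IsOver (toK (k := k) P') P := by
    rw [hPdef]
    exact below_spec P'
  have hφc : ∀ c : k', ∃ c' : k', φY (algebraMap k' Y' c) = algebraMap k' Y' c' :=
    fun c => ⟨_, hφ1 c⟩
  -- the transported place
  obtain ⟨P'', hP''⟩ : ∃ P'' : Place k' Y', P'' = comapRing φY hφc P' := ⟨_, rfl⟩
  suffices h : P'' = P' by
    have := congrArg (fun R : Place k' Y' => R.1 z) h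
    simp only [hP'', comapRing_apply] at this
    exact this
  have hover'' : IsOver (toK (k := k) P'') P := by
    obtain ⟨e, he⟩ := hover
    refine ⟨e, fun x => ?_⟩
    show P''.1 (algebraMap Y Y' x) = P.1 x ^ e
    rw [hP'', comapRing_apply, hφ2]
    exact he x
  by_contra hne
  have hneQ : toK (k := k) P' ≠ toK (k := k) P'' := by
    intro h
    apply hne
    apply place_ext
    intro w
    exact (congrArg (fun R : Place k Y' => R.1 w) h).symm
  -- approximation
  obtain ⟨r, hr⟩ := weak_approx (Qs (K' := Y') hY P)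
    (fun Q => if Q = toK (k := k) P'' then (1 : Y') else 0) 1
  have hlt : exp (-1 : ℤ) < (1 : ℤᵐ⁰) := by
    rw [← exp_zero, exp_lt_exp]
    norm_num
  have hr' : P'.1 r < 1 := by
    have := hr _ ((mem_Qs hY P _).2 hover)
    rw [if_neg hneQ, sub_zero] at this
    exact lt_of_le_of_lt this hlt
  have hr'' : P''.1 (r - 1) < 1 := by
    have := hr _ ((mem_Qs hY P _).2 hover'')
    rw [if_pos rfl] at this
    exact lt_of_le_of_lt this hlt
  have hrB : r ∈ Bp (K' := Y') hY P := by
    rw [mem_Bp]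
    intro Q hQ
    have := hr Q ((mem_Qs hY P Q).2 hQ)
    by_cases hQQ : Q = toK (k := k) P''
    · rw [if_pos hQQ] at this
      have h1 : r = (r - 1) + 1 := by ring
      rw [h1]
      exact (Q.1.map_add _ _).trans (max_le (this.trans hlt.le) (by rw [map_one]))
    · rw [if_neg hQQ, sub_zero] at this
      exact this.trans hlt.le
  -- `r ∈ O_P[k']`
  letI : Algebra P.O Y' := ((algebraMap Y Y').comp P.O.subtype).toAlgebra
  haveI : IsScalarTower P.O Y Y' := IsScalarTower.of_algebraMap_eq (fun _ => rfl)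
  haveI : FiniteDimensional k k' := Module.Finite.of_finite
  obtain ⟨hns, -⟩ := Groth.Agent.Lib.Helper34.FunFldConstSep2.main' hrank hY P _ hover
  obtain ⟨b, -, hint, -, -⟩ := integral_structure (K' := Y') hY P
  have hrint : IsIntegral P.O r := (hint r).2 hrB
  have hradj : r ∈ Algebra.adjoin P.O (Set.range (algebraMap k' Y')) := by
    have h1 : r ∈ (integralClosure P.O Y').toSubring := hrint
    rw [hns] at h1
    exact h1
  obtain ⟨τ, hτ⟩ := (mem_adjoin_iff P r).1 hradj
  -- Frobenius on the residue field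
  obtain ⟨p, hp⟩ := CharP.exists k
  letI := Fintype.ofFinite k
  obtain ⟨f, hpp, hf⟩ := FiniteField.card k p
  have hq : Nat.card k = p ^ (f : ℕ) := by rw [Nat.card_eq_fintype_card, hf]
  haveI : Fact p.Prime := ⟨hpp⟩
  haveI : CharP k' p := charP_of_injective_algebraMap (algebraMap k k').injective p
  haveI : CharP (IsLocalRing.ResidueField P'.O) p :=
    charP_of_injective_algebraMap (algebraMap k' (IsLocalRing.ResidueField P'.O)).injective p
  obtain ⟨Φ, hΦdef⟩ : ∃ Φ : IsLocalRing.ResidueField P'.O →+* IsLocalRing.ResidueField P'.O,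
      Φ = iterateFrobenius (IsLocalRing.ResidueField P'.O) p (f * n) := ⟨_, rfl⟩
  have hΦ : ∀ x, Φ x = x ^ (Nat.card k ^ n) := fun x => by
    rw [hΦdef, iterateFrobenius_def, hq, ← pow_mul]
  haveI : Module.Finite k (IsLocalRing.ResidueField P.O) := finiteDimensional_residueField hY P
  have key : ∀ τ : k' ⊗[k] P.O, ∃ (h1 : P'.1 (iota (K' := Y') P τ) ≤ 1)
      (h2 : P'.1 (φY (iota (K' := Y') P τ)) ≤ 1),
      IsLocalRing.residue P'.O ⟨φY (iota (K' := Y') P τ), h2⟩ =
        Φ (IsLocalRing.residue P'.O ⟨iota (K' := Y') P τ, h1⟩) := by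
    intro τ
    induction τ using TensorProduct.induction_on with
    | zero =>
      have h0 : P'.1 (iota (k' := k') (K' := Y') P 0) ≤ 1 := by
        rw [map_zero, map_zero]
        exact zero_le'
      have h0' : P'.1 (φY (iota (k' := k') (K' := Y') P 0)) ≤ 1 := by
        rw [map_zero, map_zero, map_zero]
        exact zero_le'
      refine ⟨h0, h0', ?_⟩
      have e1 : (⟨iota (k' := k') (K' := Y') P 0, h0⟩ : P'.O) = 0 :=
        Subtype.ext (map_zero _)
      have e2 : (⟨φY (iota (k' := k') (K' := Y') P 0), h0'⟩ : P'.O) = 0 := by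
        apply Subtype.ext
        show φY (iota (k' := k') (K' := Y') P 0) = 0
        rw [map_zero, map_zero]
      rw [e1, e2, map_zero, map_zero]
    | tmul c x =>
      have hx : P'.1 (algebraMap Y Y' (x : Y)) ≤ 1 := val_algebraMap_le_one hover x.2
      have h1 : P'.1 (iota (K' := Y') P (c ⊗ₜ x)) ≤ 1 := by
        rw [iota_tmul, map_mul]
        exact mul_le_one' (P'.2.1 c) hx
      have hφ : φY (iota (K' := Y') P (c ⊗ₜ x)) =
          algebraMap k' Y' (c ^ (Nat.card k ^ n)) * algebraMap Y Y' (x : Y) := by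
        rw [iota_tmul, map_mul, hφ1, hφ2]
      have h2 : P'.1 (φY (iota (K' := Y') P (c ⊗ₜ x))) ≤ 1 := by
        rw [hφ, map_mul]
        exact mul_le_one' (P'.2.1 _) hx
      refine ⟨h1, h2, ?_⟩
      have e1 : (⟨iota (K' := Y') P (c ⊗ₜ x), h1⟩ : P'.O) =
          ⟨algebraMap k' Y' c, P'.2.1 c⟩ * ⟨algebraMap Y Y' (x : Y), hx⟩ := Subtype.ext rfl
      have e2 : (⟨φY (iota (K' := Y') P (c ⊗ₜ x)), h2⟩ : P'.O) =
          ⟨algebraMap k' Y' c, P'.2.1 c⟩ ^ (Nat.card k ^ n) * ⟨algebraMap Y Y' (x : Y), hx⟩ := by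
        apply Subtype.ext
        show φY (iota (K' := Y') P (c ⊗ₜ x)) = algebraMap k' Y' c ^ (Nat.card k ^ n) * _
        rw [hφ, map_pow]
      rw [e1, e2, map_mul, map_mul, map_pow, map_mul, hΦ, hΦ]
      congr 1
      -- the residue of `x` is fixed
      have e3 : (IsLocalRing.ResidueField.map (toO hover) (IsLocalRing.residue P.O x)) ^
          (Nat.card k ^ n) =
          IsLocalRing.ResidueField.map (toO hover) (IsLocalRing.residue P.O x) := by
        rw [← map_pow, pow_card_pow_eq hd]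
      exact e3.symm
    | add x y hx hy =>
      obtain ⟨hx1, hx2, hx3⟩ := hx
      obtain ⟨hy1, hy2, hy3⟩ := hy
      have h1 : P'.1 (iota (K' := Y') P (x + y)) ≤ 1 := by
        rw [map_add]
        exact (P'.1.map_add _ _).trans (max_le hx1 hy1)
      have h2 : P'.1 (φY (iota (K' := Y') P (x + y))) ≤ 1 := by
        rw [map_add, map_add]
        exact (P'.1.map_add _ _).trans (max_le hx2 hy2)
      refine ⟨h1, h2, ?_⟩
      have e1 : (⟨iota (K' := Y') P (x + y), h1⟩ : P'.O) =
          ⟨iota (K' := Y') P x, hx1⟩ + ⟨iota (K' := Y') P y, hy1⟩ :=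
        Subtype.ext (map_add _ _ _)
      have e2 : (⟨φY (iota (K' := Y') P (x + y)), h2⟩ : P'.O) =
          ⟨φY (iota (K' := Y') P x), hx2⟩ + ⟨φY (iota (K' := Y') P y), hy2⟩ := by
        apply Subtype.ext
        show φY (iota (K' := Y') P (x + y)) = _ + _
        rw [map_add, map_add]
      rw [e1, e2, map_add, map_add, map_add, hx3, hy3]
  obtain ⟨h1, h2, h3⟩ := key τ
  have hres : IsLocalRing.residue P'.O ⟨iota (K' := Y') P τ, h1⟩ = 0 := by
    rw [IsLocalRing.residue_eq_zero_iff, Valuation.mem_maximalIdeal_iff]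
    show P'.1 (iota (K' := Y') P τ) < 1
    rw [hτ]
    exact hr'
  rw [hres, map_zero, IsLocalRing.residue_eq_zero_iff, Valuation.mem_maximalIdeal_iff] at h3
  have h4 : P''.1 r < 1 := by
    rw [hP'', comapRing_apply, ← hτ]
    exact h3
  have h5 : P''.1 r = 1 := by
    have e : r = 1 + (r - 1) := by ring
    rw [e, Valuation.map_add_eq_of_lt_left P''.1 (by rw [map_one]; exact hr''), map_one]
  rw [h5] at h4
  exact lt_irrefl _ h4

end fixed

section count

variable {n : ℕ} (φY : Y' ≃+* Y')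
  (hφ1 : ∀ c : k', φY (algebraMap k' Y' c) = algebraMap k' Y' (c ^ (Nat.card k ^ n)))
  (hφ2 : ∀ y : Y, φY (algebraMap Y Y' y) = algebraMap Y Y' y)

include hφ1 hφ2 in
/-- **The number of Frobenius-fixed places of degree one** of the constant field extension is
`N_n = ∑_{deg P ∣ n} deg P`. -/
theorem card_fixed (hrank : Module.finrank Y Y' = Module.finrank k k')
    (hY : IsFunctionField k Y) (hY' : IsFunctionField k' Y') (hn : 0 < n)
    (hnN : n ∣ Module.finrank k k') :
    Nat.card {P' : Place k' Y' // P'.deg = 1 ∧ ∀ y, P'.1 (φY y) = P'.1 y} = Nr hY n := by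
  classical
  haveI : FiniteDimensional k k' := Module.Finite.of_finite
  have hN : 0 < Module.finrank k k' := Module.finrank_pos
  have hdeg : ∀ Q' : Place k' Y', Module.finrank k k' * Q'.deg =
      Nat.lcm (below (k := k) (K := Y) Q').deg (Module.finrank k k') := by
    intro Q'
    rw [← deg_toK (k := k), deg_eq_lcm hrank hY (below Q') (toK Q') (below_spec Q')]
  have hdeg1 : ∀ Q' : Place k' Y', (below (k := k) (K := Y) Q').deg ∣ n → Q'.deg = 1 := by
    intro Q' hd
    have h1 := hdeg Q'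
    rw [Nat.lcm_eq_right (hd.trans hnN)] at h1
    have h2 : Module.finrank k k' * Q'.deg = Module.finrank k k' * 1 := by rw [h1, mul_one]
    exact Nat.eq_of_mul_eq_mul_left hN h2
  have hchar : ∀ P' : Place k' Y', (P'.deg = 1 ∧ ∀ y, P'.1 (φY y) = P'.1 y) ↔
      (below (k := k) (K := Y) P').deg ∣ n := by
    intro P'
    constructor
    · rintro ⟨h1, h2⟩
      exact deg_dvd_of_fixed φY hφ1 hφ2 hY P' h1 h2
    · intro hd
      exact ⟨hdeg1 P' hd, fun y => fixed_of_deg_dvd φY hφ1 hφ2 hrank hY P' hd y⟩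
  rw [Nat.subtype_card ((Pl hY' 1).filter
    (fun P' => (below (k := k) (K := Y) P').deg ∣ n))]
  swap
  · intro P'
    rw [Finset.mem_filter, mem_Pl, hchar]
    constructor
    · exact fun h => h.2
    · exact fun h => ⟨(hdeg1 P' h).le, h⟩
  rw [Finset.card_eq_sum_ones, Nr]
  have hmaps : ∀ Q' ∈ (Pl hY' 1).filter (fun P' => (below (k := k) (K := Y) P').deg ∣ n),
      below (k := k) (K := Y) Q' ∈ (Pl hY n).filter (fun P => P.deg ∣ n) := by
    intro Q' hQ'
    rw [Finset.mem_filter] at hQ' ⊢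
    exact ⟨(mem_Pl hY).2 (Nat.le_of_dvd hn hQ'.2), hQ'.2⟩
  rw [← Finset.sum_fiberwise_of_maps_to hmaps]
  apply Finset.sum_congr rfl
  intro P hP
  rw [Finset.mem_filter] at hP
  apply Nat.eq_of_mul_eq_mul_left hN
  rw [Finset.mul_sum, ← sum_deg hrank hY P]
  apply Finset.sum_nbij' (fun Q' => toK (k := k) Q') (fun Q => ofK (k' := k') Q)
  · intro Q' hQ'
    rw [Finset.mem_filter] at hQ'
    rw [mem_Qs, ← hQ'.2]
    exact below_spec Q'
  · intro Q hQ
    rw [mem_Qs] at hQ
    have hb : below (k := k) (K := Y) (ofK (k' := k') Q) = P := below_eq hQ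
    rw [Finset.mem_filter, Finset.mem_filter]
    have h1 : (below (k := k) (K := Y) (ofK (k' := k') Q)).deg ∣ n := by rw [hb]; exact hP.2
    exact ⟨⟨(mem_Pl hY').2 (hdeg1 _ h1).le, h1⟩, hb⟩
  · intro Q' _
    rfl
  · intro Q _
    rfl
  · intro Q' hQ'
    rw [Finset.mem_filter, Finset.mem_filter] at hQ'
    rw [deg_toK, hdeg1 Q' hQ'.1.2]

end count

end Groth.Agent.Lib.Helper34.RH.FixedY
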