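import Groth.Agent.Lib.Helper88.FunFldApps
import Groth.Agent.Lib.Helper34.RH.FixedY
import Mathlib.Algebra.CharP.Lemmas

/-!
# Bombieri's upper bound, twisted by an automorphism (helper34)

`F/k₁` a function field of genus `g` over a finite field, `γ` a ring automorphism of `F` acting on
`k₁` as `c ↦ c ^ Q` with `Q = q₀²`, `q₀ = p ^ a`, and `Q > (g + 1)⁴`.  Then the places of degree one
fixed by `γ` number at most `Q + (2 g + 1) q₀`.
-/

set_option autoImplicit false

namespace Groth.Agent.Lib.Helper34.RH.Bombieri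

open FunFld WithZero Groth.Agent.Lib.Helper88 Groth.Agent.Lib.Helper88.FF
  Groth.Agent.Lib.Helper44.FFExt Groth.Agent.Lib.Helper34.RH.Count
  Groth.Agent.Lib.Helper34.FunFldFrobFix Groth.Agent.Lib.Helper34.RH.FixedY

variable {k F : Type*} [Field k] [Field F] [Algebra k F]

section single

variable (R0 : Place k F)

/-- The divisor `j · R0`. -/
noncomputable def sD (j : ℤ) : Divisor k F := Finsupp.single R0 j

lemma sD_apply_self (j : ℤ) : sD R0 j R0 = j := by
  rw [sD, Finsupp.single_eq_same]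

lemma sD_apply_of_ne (j : ℤ) {R : Place k F} (h : R ≠ R0) : sD R0 j R = 0 := by
  rw [sD, Finsupp.single_eq_of_ne h]

lemma sD_mono {i j : ℤ} (h : i ≤ j) : sD R0 i ≤ sD R0 j := by
  intro R
  by_cases hR : R = R0
  · subst hR
    rw [sD_apply_self, sD_apply_self]
    exact h
  · rw [sD_apply_of_ne R0 i hR, sD_apply_of_ne R0 j hR]

lemma mem_L_sD {j : ℤ} {x : F} :
    x ∈ L (sD R0 j) ↔ R0.1 x ≤ exp j ∧ ∀ R : Place k F, R ≠ R0 → R.1 x ≤ 1 := by
  constructor
  · intro h
    refine ⟨?_, fun R hR => ?_⟩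
    · have := h R0
      rwa [sD_apply_self] at this
    · have := h R
      rwa [sD_apply_of_ne R0 j hR, exp_zero] at this
  · rintro ⟨h1, h2⟩ R
    by_cases hR : R = R0
    · subst hR
      rw [sD_apply_self]
      exact h1
    · rw [sD_apply_of_ne R0 j hR, exp_zero]
      exact h2 R hR

lemma deg_sD (hdeg : R0.deg = 1) (j : ℤ) : (sD R0 j).deg = j := by
  rw [sD, deg_single, hdeg]
  simp

/-- An element of `L(j R0)` not in `L((j-1) R0)` has exact pole order `j`. -/
lemma val_eq_of_mem_of_not_mem {j : ℤ} {u : F} (h1 : u ∈ L (sD R0 j))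
    (h2 : u ∉ L (sD R0 (j - 1))) : R0.1 u = exp j := by
  rw [mem_L_sD] at h1 h2
  apply le_antisymm h1.1
  by_contra hcon
  push Not at hcon
  apply h2
  refine ⟨?_, h1.2⟩
  have := (lt_exp_succ_iff (x := R0.1 u) (n := j - 1)).1 (by rwa [sub_add_cancel])
  exact this

end single

section poles

variable (R0 : Place k F)

open scoped Classical in
/-- The pole numbers `j ≤ m` at `R0`. -/
noncomputable def poleSet (m : ℕ) : Finset ℕ :=
  (Finset.range (m + 1)).filter (fun j => ¬ (L (sD R0 (j : ℤ)) ≤ L (sD R0 ((j : ℤ) - 1))))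

lemma mem_poleSet {m j : ℕ} : j ∈ poleSet R0 m ↔
    j ≤ m ∧ ¬ (L (sD R0 (j : ℤ)) ≤ L (sD R0 ((j : ℤ) - 1))) := by
  classical
  rw [poleSet, Finset.mem_filter, Finset.mem_range, Nat.lt_succ_iff]

lemma poleSet_subset (m : ℕ) : poleSet R0 m ⊆ poleSet R0 (m + 1) := by
  intro j hj
  rw [mem_poleSet] at hj ⊢
  exact ⟨Nat.le_succ_of_le hj.1, hj.2⟩

/-- There are at least `ℓ(m R0)` pole numbers `≤ m`. -/
theorem ell_le_card_poleSet (hF : IsFunctionField k F) (hdeg : R0.deg = 1) (m : ℕ) :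
    ell (sD R0 (m : ℤ)) ≤ (poleSet R0 m).card := by
  classical
  induction m with
  | zero =>
    have h0 : sD R0 ((0 : ℕ) : ℤ) = 0 := by
      rw [sD, Nat.cast_zero, Finsupp.single_zero]
    rw [h0, ell_zero hF]
    have hmem : 0 ∈ poleSet R0 0 := by
      rw [mem_poleSet]
      refine ⟨le_rfl, ?_⟩
      rw [h0]
      have hbot : L (sD R0 (((0 : ℕ) : ℤ) - 1)) = ⊥ := by
        apply L_eq_bot_of_deg_neg hF
        rw [deg_sD R0 hdeg]
        norm_num
      rw [hbot]
      intro hle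
      have h1 : (1 : F) ∈ L (0 : Divisor k F) := by
        intro P
        rw [map_one]
        simp
      have := hle h1
      rw [Submodule.mem_bot] at this
      exact one_ne_zero this
    exact Finset.card_pos.2 ⟨0, hmem⟩
  | succ m ih =>
    by_cases hle : L (sD R0 ((m + 1 : ℕ) : ℤ)) ≤ L (sD R0 (((m + 1 : ℕ) : ℤ) - 1))
    · have hfd := finiteDimensional_L hF (sD R0 (((m + 1 : ℕ) : ℤ) - 1))
      have h1 : ell (sD R0 ((m + 1 : ℕ) : ℤ)) ≤ ell (sD R0 (((m + 1 : ℕ) : ℤ) - 1)) :=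
        Submodule.finrank_mono hle
      have h2 : (((m + 1 : ℕ) : ℤ) - 1) = (m : ℤ) := by push_cast; ring
      rw [h2] at h1
      exact h1.trans (ih.trans (Finset.card_le_card (poleSet_subset R0 m)))
    · have hmem : m + 1 ∈ poleSet R0 (m + 1) := by
        rw [mem_poleSet]
        exact ⟨le_rfl, hle⟩
      have hnot : m + 1 ∉ poleSet R0 m := by
        intro h
        rw [mem_poleSet] at h
        omega
      have hsub : insert (m + 1) (poleSet R0 m) ⊆ poleSet R0 (m + 1) := by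
        intro j hj
        rcases Finset.mem_insert.1 hj with rfl | hj
        · exact hmem
        · exact poleSet_subset R0 m hj
      have hcard := Finset.card_le_card hsub
      rw [Finset.card_insert_of_notMem hnot] at hcard
      have h3 := ell_sub_ell_le hF (sD_mono R0 (show (m : ℤ) ≤ ((m + 1 : ℕ) : ℤ) by push_cast; omega))
      rw [deg_sD R0 hdeg, deg_sD R0 hdeg] at h3
      have h4 : (ell (sD R0 ((m + 1 : ℕ) : ℤ)) : ℤ) ≤ ell (sD R0 (m : ℤ)) + 1 := by
        push_cast at h3 ⊢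
        linarith
      have h5 : ell (sD R0 ((m + 1 : ℕ) : ℤ)) ≤ ell (sD R0 (m : ℤ)) + 1 := by exact_mod_cast h4
      omega

end poles

section aux

omit [Algebra k F] in
/-- A finite sum whose nonzero terms have pairwise distinct valuations is nonzero. -/
lemma sum_ne_zero_of_val_distinct {ι : Type*} (v : Valuation F ℤᵐ⁰) (s : Finset ι) (t : ι → F)
    (hinj : ∀ i ∈ s, ∀ j ∈ s, t i ≠ 0 → t j ≠ 0 → v (t i) = v (t j) → i = j)
    (hne : ∃ i ∈ s, t i ≠ 0) : ∑ i ∈ s, t i ≠ 0 := by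
  classical
  obtain ⟨i0, hi0, hti0⟩ := hne
  have hs' : (s.filter (fun i => t i ≠ 0)).Nonempty := ⟨i0, Finset.mem_filter.2 ⟨hi0, hti0⟩⟩
  obtain ⟨i, hi, hmax⟩ := Finset.exists_max_image (s.filter (fun i => t i ≠ 0))
    (fun i => v (t i)) hs'
  rw [Finset.mem_filter] at hi
  have hvi : v (t i) ≠ 0 := (Valuation.ne_zero_iff v).2 hi.2
  have hlt : ∀ j ∈ s.erase i, v (t j) < v (t i) := by
    intro j hj
    rw [Finset.mem_erase] at hj
    by_cases htj : t j = 0
    · rw [htj, map_zero]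
      exact zero_lt_iff.2 hvi
    · have h1 := hmax j (Finset.mem_filter.2 ⟨hj.2, htj⟩)
      refine lt_of_le_of_ne h1 ?_
      intro heq
      exact hj.1 (hinj j hj.2 i hi.1 htj hi.2 heq)
  have hrest : v (∑ j ∈ s.erase i, t j) < v (t i) := Valuation.map_sum_lt v hvi hlt
  rw [← Finset.add_sum_erase s t hi.1]
  intro h0
  have := Valuation.map_add_eq_of_lt_left v hrest
  rw [h0, map_zero] at this
  exact hvi this.symm

/-- More vectors than the dimension: a nontrivial linear relation. -/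
lemma exists_relation {ι : Type*} [Fintype ι] (V : Submodule k F) [FiniteDimensional k V]
    (z : ι → F) (hz : ∀ i, z i ∈ V) (hcard : Module.finrank k V < Fintype.card ι) :
    ∃ β : ι → k, β ≠ 0 ∧ ∑ i, β i • z i = 0 := by
  classical
  by_contra hcon
  push Not at hcon
  have hmem : ∀ β : ι → k, Fintype.linearCombination k z β ∈ V := by
    intro β
    rw [Fintype.linearCombination_apply]
    exact Submodule.sum_mem _ (fun i _ => Submodule.smul_mem _ _ (hz i))
  have hinj : Function.Injective (LinearMap.codRestrict V (Fintype.linearCombination k z) hmem) := by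
    rw [← LinearMap.ker_eq_bot, LinearMap.ker_codRestrict, LinearMap.ker_eq_bot']
    intro β hβ
    by_contra hne
    apply hcon β hne
    rw [← Fintype.linearCombination_apply]
    exact hβ
  have := LinearMap.finrank_le_finrank_of_injective hinj
  rw [Module.finrank_fintype_fun_eq_card] at this
  omega

end aux

section main

variable [Finite k] (hF : IsFunctionField k F) (p : ℕ) [Fact p.Prime] [CharP F p] (a : ℕ)
  (γ : F ≃+* F) (hγ : ∀ c : k, γ (algebraMap k F c) = algebraMap k F (c ^ (p ^ (2 * a))))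

include hF hγ in
/-- The auxiliary function of Bombieri's proof. -/
theorem exists_zero_function (hbig : (genus k F + 1) ^ 4 < p ^ (2 * a))
    (R0 : Place k F) (hR0deg : R0.deg = 1) (hR0fix : ∀ z, R0.1 (γ z) = R0.1 z) :
    ∃ (r : ℕ) (y : F), r + 1 = p ^ (2 * a) + (2 * genus k F + 1) * p ^ a ∧ y ≠ 0 ∧
      y ∈ L (sD R0 (r : ℤ)) ∧
      ∀ R : Place k F, R ≠ R0 → R.deg = 1 → (∀ z, R.1 (γ z) = R.1 z) → R.1 y < 1 := by
  classical
  haveI : ExpChar F p := ExpChar.prime Fact.out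
  obtain ⟨g, hg⟩ : ∃ g, g = genus k F := ⟨_, rfl⟩
  rw [← hg] at hbig ⊢
  obtain ⟨q0, hq0def⟩ : ∃ q0, q0 = p ^ a := ⟨_, rfl⟩
  have hQ : p ^ (2 * a) = q0 ^ 2 := by rw [hq0def, ← pow_mul, mul_comm]
  have hq0 : (g + 1) ^ 2 < q0 := by
    by_contra hcon
    push Not at hcon
    have h1 : q0 ^ 2 ≤ ((g + 1) ^ 2) ^ 2 := Nat.pow_le_pow_left hcon 2
    have h2 : ((g + 1) ^ 2) ^ 2 = (g + 1) ^ 4 := by ring
    rw [h2, ← hQ] at h1
    omega
  have hq0pos : 0 < q0 := by
    rw [hq0def]
    exact pow_pos (Fact.out : p.Prime).pos a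
  obtain ⟨m, hm⟩ : ∃ m, m + 1 = q0 := ⟨q0 - 1, by omega⟩
  obtain ⟨nn, hnn⟩ : ∃ nn, nn = 2 * g + q0 := ⟨_, rfl⟩
  have hγc : ∀ c : k, ∃ c' : k, γ (algebraMap k F c) = algebraMap k F c' := fun c => ⟨_, hγ c⟩
  -- pole numbers
  have hTcard : q0 ≤ (poleSet R0 m).card + g := by
    have h1 := ell_le_card_poleSet R0 hF hR0deg m
    have h2 := delta_le_genus hF (sD R0 (m : ℤ))
    unfold delta at h2
    rw [deg_sD R0 hR0deg, ← hg] at h2
    have h3 : (q0 : ℤ) ≤ ell (sD R0 (m : ℤ)) + g := by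
      have : ((m + 1 : ℕ) : ℤ) = q0 := by exact_mod_cast hm
      push_cast at this
      linarith
    have h4 : q0 ≤ ell (sD R0 (m : ℤ)) + g := by exact_mod_cast h3
    omega
  have hu : ∀ j : ℕ, ∃ u : F, j ∈ poleSet R0 m →
      (u ∈ L (sD R0 (j : ℤ)) ∧ u ∉ L (sD R0 ((j : ℤ) - 1))) := by
    intro j
    by_cases hj : j ∈ poleSet R0 m
    · obtain ⟨u, hu1, hu2⟩ := SetLike.not_le_iff_exists.1 ((mem_poleSet R0).1 hj).2
      exact ⟨u, fun _ => ⟨hu1, hu2⟩⟩
    · exact ⟨0, fun h => absurd h hj⟩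
  choose u hu using hu
  have hu0 : ∀ j ∈ poleSet R0 m, R0.1 (u j) = exp (j : ℤ) := fun j hj =>
    val_eq_of_mem_of_not_mem R0 (hu j hj).1 (hu j hj).2
  have hu1 : ∀ j ∈ poleSet R0 m, ∀ R : Place k F, R ≠ R0 → R.1 (u j) ≤ 1 := fun j hj =>
    ((mem_L_sD R0).1 (hu j hj).1).2
  have hjm : ∀ j ∈ poleSet R0 m, j ≤ m := fun j hj => ((mem_poleSet R0).1 hj).1
  -- basis of `L(nn R0)`
  haveI fdW := finiteDimensional_L hF (sD R0 (nn : ℤ))
  obtain ⟨bw, -⟩ : ∃ bw : Module.Basis (Fin (Module.finrank k (L (sD R0 (nn : ℤ))))) k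
      (L (sD R0 (nn : ℤ))), bw = Module.finBasis k _ := ⟨_, rfl⟩
  have ht : (Module.finrank k (L (sD R0 (nn : ℤ))) : ℤ) = nn + 1 - g := by
    have h1 : 2 * (genus k F : ℤ) - 1 ≤ (sD R0 (nn : ℤ)).deg := by
      rw [deg_sD R0 hR0deg, ← hg, hnn]
      push_cast
      linarith
    have := ell_eq_of_le_deg hF h1
    rw [deg_sD R0 hR0deg, ← hg] at this
    exact this
  have hw : ∀ l, R0.1 ((bw l : L (sD R0 (nn : ℤ))) : F) ≤ exp (nn : ℤ) ∧
      ∀ R : Place k F, R ≠ R0 → R.1 ((bw l : L (sD R0 (nn : ℤ))) : F) ≤ 1 :=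
    fun l => (mem_L_sD R0).1 (bw l).2
  -- transport of places by `γ`
  have hγval : ∀ (R : Place k F) (x : F), R ≠ R0 →
      (∀ R' : Place k F, R' ≠ R0 → R'.1 x ≤ 1) → R.1 (γ x) ≤ 1 := by
    intro R x hR hx
    have hne : comapRing γ hγc R ≠ R0 := by
      intro h
      apply hR
      apply comapRing_injective γ hγc
      rw [h]
      apply place_ext
      intro z
      exact (hR0fix z).symm
    exact hx _ hne
  -- the target space
  obtain ⟨dV, hdV⟩ : ∃ dV : ℕ, dV = q0 * m + nn := ⟨_, rfl⟩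
  haveI fdV := finiteDimensional_L hF (sD R0 (dV : ℤ))
  have hV : (Module.finrank k (L (sD R0 (dV : ℤ))) : ℤ) = dV + 1 - g := by
    have h1 : 2 * (genus k F : ℤ) - 1 ≤ (sD R0 (dV : ℤ)).deg := by
      rw [deg_sD R0 hR0deg, ← hg, hdV, hnn]
      push_cast
      nlinarith
    have := ell_eq_of_le_deg hF h1
    rw [deg_sD R0 hR0deg, ← hg] at this
    exact this
  -- the vectors
  obtain ⟨z, hzdef⟩ : ∃ z : {j // j ∈ poleSet R0 m} × Fin (Module.finrank k (L (sD R0 (nn : ℤ)))) → F,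
      z = fun i => u i.1.1 ^ q0 * γ ((bw i.2 : L (sD R0 (nn : ℤ))) : F) := ⟨_, rfl⟩
  have hz : ∀ i, z i ∈ L (sD R0 (dV : ℤ)) := by
    intro i
    rw [hzdef, mem_L_sD]
    refine ⟨?_, fun R hR => ?_⟩
    · show R0.1 (u i.1.1 ^ q0 * γ _) ≤ _
      rw [map_mul, map_pow, hR0fix, hu0 _ i.1.2, exp_pow', hdV]
      push_cast
      rw [exp_add]
      refine mul_le_mul' ?_ (hw i.2).1
      rw [exp_le_exp]
      have := hjm _ i.1.2
      have h2 : ((i.1.1 : ℕ) : ℤ) ≤ m := by exact_mod_cast this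
      nlinarith
    · show R.1 (u i.1.1 ^ q0 * γ _) ≤ 1
      rw [map_mul, map_pow]
      exact mul_le_one' (pow_le_one₀ zero_le' (hu1 _ i.1.2 R hR)) (hγval R _ hR (hw i.2).2)
  have hcard : Module.finrank k (L (sD R0 (dV : ℤ))) <
      Fintype.card ({j // j ∈ poleSet R0 m} × Fin (Module.finrank k (L (sD R0 (nn : ℤ))))) := by
    rw [Fintype.card_prod, Fintype.card_coe, Fintype.card_fin]
    have h1 : (Module.finrank k (L (sD R0 (dV : ℤ))) : ℤ) <
        ((poleSet R0 m).card : ℤ) * (Module.finrank k (L (sD R0 (nn : ℤ))) : ℤ) := by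
      rw [hV, ht, hdV, hnn]
      have h2 : (q0 : ℤ) ≤ (poleSet R0 m).card + g := by exact_mod_cast hTcard
      have h3 : ((g : ℤ) + 1) ^ 2 < q0 := by exact_mod_cast hq0
      have h4 : ((m : ℤ) + 1) = q0 := by exact_mod_cast hm
      have h5 : (0 : ℤ) ≤ g := Int.natCast_nonneg g
      push_cast
      have h6 : (m : ℤ) = q0 - 1 := by linarith
      rw [h6]
      have h7 : ((q0 : ℤ) - g) * (2 * g + q0 + 1 - g) ≤
          ((poleSet R0 m).card : ℤ) * (2 * g + q0 + 1 - g) := by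
        apply mul_le_mul_of_nonneg_right (by linarith)
        nlinarith
      nlinarith
    exact_mod_cast h1
  obtain ⟨β, hβ0, hβ⟩ := exists_relation (L (sD R0 (dV : ℤ))) z hz hcard
  -- roots
  haveI : CharP k p := (Algebra.charP_iff k F p).2 inferInstance
  haveI : ExpChar k p := ExpChar.prime Fact.out
  have hsurj : Function.Surjective (iterateFrobenius k p (2 * a)) :=
    Finite.injective_iff_surjective.1 (iterateFrobenius k p (2 * a)).injective
  have hb : ∀ i, ∃ b : k, b ^ p ^ (2 * a) = β i := fun i => hsurj (β i)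
  choose b hb using hb
  have hb0 : ∃ i, b i ≠ 0 := by
    by_contra hcon
    push Not at hcon
    apply hβ0
    funext i
    rw [← hb i, hcon i, Pi.zero_apply, zero_pow]
    exact (pow_pos (Fact.out : p.Prime).pos _).ne'
  -- the functions `y_j`
  obtain ⟨yy, hyy⟩ : ∃ yy : {j // j ∈ poleSet R0 m} → F,
      yy = fun j => ∑ l, b (j, l) • ((bw l : L (sD R0 (nn : ℤ))) : F) := ⟨_, rfl⟩
  have hyymem : ∀ j, yy j ∈ L (sD R0 (nn : ℤ)) := by
    intro j
    rw [hyy]
    exact Submodule.sum_mem _ (fun l _ => Submodule.smul_mem _ _ (bw l).2)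
  have hyy0 : ∃ j, yy j ≠ 0 := by
    obtain ⟨⟨j, l⟩, hjl⟩ := hb0
    refine ⟨j, fun h0 => hjl ?_⟩
    have h1 : ∑ l, b (j, l) • bw l = 0 := by
      apply Subtype.ext
      rw [Submodule.coe_sum, ZeroMemClass.coe_zero, ← h0, hyy]
      apply Finset.sum_congr rfl
      intro l _
      rw [Submodule.coe_smul]
    exact Fintype.linearIndependent_iff.1 bw.linearIndependent (fun l => b (j, l)) h1 l
  have hγyy : ∀ j, γ (yy j) = ∑ l, β (j, l) • γ ((bw l : L (sD R0 (nn : ℤ))) : F) := by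
    intro j
    rw [hyy, map_sum]
    apply Finset.sum_congr rfl
    intro l _
    rw [Algebra.smul_def, map_mul, hγ, hb, ← Algebra.smul_def]
  have hΛ : ∑ j, u j.1 ^ q0 * γ (yy j) = 0 := by
    rw [← hβ, Fintype.sum_prod_type]
    apply Finset.sum_congr rfl
    intro j _
    rw [hγyy, Finset.mul_sum]
    apply Finset.sum_congr rfl
    intro l _
    rw [hzdef, mul_smul_comm]
  -- the function `y`
  refine ⟨m + q0 * nn, ∑ j, u j.1 * yy j ^ q0, ?_, ?_, ?_, ?_⟩
  · rw [hQ, ← hq0def, hnn, ← hm]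
    ring
  · -- `y ≠ 0`
    apply sum_ne_zero_of_val_distinct R0.1
    · intro j _ j' _ hj hj' heq
      have hyj : yy j ≠ 0 := fun h => hj (by rw [h, zero_pow hq0pos.ne', mul_zero])
      have hyj' : yy j' ≠ 0 := fun h => hj' (by rw [h, zero_pow hq0pos.ne', mul_zero])
      rw [map_mul, map_mul, map_pow, map_pow, hu0 _ j.2, hu0 _ j'.2,
        val_eq_exp_neg_ord R0 hyj, val_eq_exp_neg_ord R0 hyj', exp_pow', exp_pow', ← exp_add,
        ← exp_add, exp_inj] at heq
      have h1 := hjm _ j.2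
      have h2 := hjm _ j'.2
      have h1' : ((j.1 : ℕ) : ℤ) ≤ m := by exact_mod_cast h1
      have h2' : ((j'.1 : ℕ) : ℤ) ≤ m := by exact_mod_cast h2
      have h3 : ((m : ℤ) + 1) = q0 := by exact_mod_cast hm
      have h4 : (0 : ℤ) ≤ (j.1 : ℕ) := Int.natCast_nonneg _
      have h5 : (0 : ℤ) ≤ (j'.1 : ℕ) := Int.natCast_nonneg _
      have h6 : ((j.1 : ℕ) : ℤ) = (j'.1 : ℕ) := by
        rcases lt_trichotomy (R0.ord (yy j)) (R0.ord (yy j')) with h | h | h
        · nlinarith
        · rw [h] at heq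
          linarith
        · nlinarith
      apply Subtype.ext
      exact_mod_cast h6
    · obtain ⟨j, hj⟩ := hyy0
      refine ⟨j, Finset.mem_univ _, ?_⟩
      have hne : u j.1 ≠ 0 := by
        intro h
        have := hu0 _ j.2
        rw [h, map_zero] at this
        exact exp_ne_zero this.symm
      exact mul_ne_zero hne (pow_ne_zero _ hj)
  · -- `y ∈ L(r R0)`
    refine Submodule.sum_mem _ (fun j _ => ?_)
    rw [mem_L_sD]
    have hy := (mem_L_sD R0).1 (hyymem j)
    refine ⟨?_, fun R hR => ?_⟩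
    · rw [map_mul, map_pow]
      push_cast
      rw [exp_add]
      refine mul_le_mul' ?_ ?_
      · rw [hu0 _ j.2, exp_le_exp]
        exact_mod_cast hjm _ j.2
      · calc R0.1 (yy j) ^ q0 ≤ exp (nn : ℤ) ^ q0 := pow_le_pow_left₀ zero_le' hy.1 _
          _ = exp ((q0 : ℤ) * nn) := exp_pow' _ _
    · rw [map_mul, map_pow]
      exact mul_le_one' (hu1 _ j.2 R hR) (pow_le_one₀ zero_le' (hy.2 R hR))
  · -- vanishing at the fixed places
    intro R hR hRdeg hRfix
    have hpow : (∑ j, u j.1 * yy j ^ q0) ^ q0 =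
        ∑ j, u j.1 ^ q0 * (yy j ^ p ^ (2 * a) - γ (yy j)) := by
      have e1 : ∑ j, u j.1 ^ q0 * (yy j ^ p ^ (2 * a) - γ (yy j)) =
          ∑ j, u j.1 ^ q0 * yy j ^ p ^ (2 * a) - ∑ j, u j.1 ^ q0 * γ (yy j) := by
        rw [← Finset.sum_sub_distrib]
        apply Finset.sum_congr rfl
        intro j _
        ring
      rw [e1, hΛ, sub_zero, hq0def, sum_pow_char_pow]
      apply Finset.sum_congr rfl
      intro j _
      rw [mul_pow, ← pow_mul, ← pow_add]
      congr 2
      ring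
    have hlt : R.1 ((∑ j, u j.1 * yy j ^ q0) ^ q0) < 1 := by
      rw [hpow]
      apply Valuation.map_sum_lt R.1 one_ne_zero
      intro j _
      have hy := ((mem_L_sD R0).1 (hyymem j)).2 R hR
      obtain ⟨c, hc⟩ := exists_const_of_deg_one hRdeg hy
      have hA := val_pow_sub_pow_lt R.1 hy (R.2.1 c) hc (p ^ (2 * a))
      have hB : R.1 (γ (yy j) - algebraMap k F c ^ p ^ (2 * a)) < 1 := by
        have := hRfix (yy j - algebraMap k F c)
        rw [map_sub, hγ, map_pow] at this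
        rw [this]
        exact hc
      have hAB : yy j ^ p ^ (2 * a) - γ (yy j) =
          (yy j ^ p ^ (2 * a) - algebraMap k F c ^ p ^ (2 * a)) -
            (γ (yy j) - algebraMap k F c ^ p ^ (2 * a)) := by ring
      rw [map_mul, map_pow, hAB]
      calc R.1 (u j.1) ^ q0 * R.1 _ ≤ 1 * R.1 _ :=
            mul_le_mul' (pow_le_one₀ zero_le' (hu1 _ j.2 R hR)) le_rfl
        _ = R.1 _ := one_mul _
        _ < 1 := lt_of_le_of_lt (Valuation.map_sub R.1 _ _) (max_lt hA hB)
    rw [map_pow] at hlt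
    by_contra hcon
    push Not at hcon
    exact absurd hlt (not_lt.2 (one_le_pow₀ hcon))

end main

section count

variable [Finite k] (hF : IsFunctionField k F) (p : ℕ) [Fact p.Prime] [CharP F p] (a : ℕ)
  (γ : F ≃+* F) (hγ : ∀ c : k, γ (algebraMap k F c) = algebraMap k F (c ^ (p ^ (2 * a))))

include hF hγ in
/-- **Bombieri's bound**, twisted by an automorphism `γ`. -/
theorem card_fixed_le (hbig : (genus k F + 1) ^ 4 < p ^ (2 * a)) :
    Nat.card {R : Place k F // R.deg = 1 ∧ ∀ z, R.1 (γ z) = R.1 z} ≤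
      p ^ (2 * a) + (2 * genus k F + 1) * p ^ a := by
  classical
  have hfin : {R : Place k F | R.deg = 1 ∧ ∀ z, R.1 (γ z) = R.1 z}.Finite :=
    (Groth.Agent.Lib.Helper91.FunFldFin.finite_places_deg_eq hF 1).subset (fun R h => h.1)
  rw [Nat.subtype_card hfin.toFinset (fun R => by rw [Set.Finite.mem_toFinset]; rfl)]
  rcases hfin.toFinset.eq_empty_or_nonempty with hS | ⟨R0, hR0⟩
  · rw [hS, Finset.card_empty]
    exact Nat.zero_le _
  have hR0' := (Set.Finite.mem_toFinset hfin).1 hR0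
  obtain ⟨r, y, hr, hy0, hyL, hyvan⟩ :=
    exists_zero_function hF p a γ hγ hbig R0 hR0'.1 hR0'.2
  -- the divisor of zeros and poles
  have hsumapply : ∀ R : Place k F,
      (∑ R' ∈ hfin.toFinset.erase R0, (Finsupp.single R' (1 : ℤ) : Divisor k F)) R =
        if R ∈ hfin.toFinset.erase R0 then 1 else 0 := by
    intro R
    rw [Finsupp.finset_sum_apply]
    by_cases hR : R ∈ hfin.toFinset.erase R0
    · rw [if_pos hR, Finset.sum_eq_single R]
      · rw [Finsupp.single_eq_same]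
      · intro R' _ hne
        rw [Finsupp.single_eq_of_ne hne.symm]
      · intro h
        exact absurd hR h
    · rw [if_neg hR]
      apply Finset.sum_eq_zero
      intro R' hR'
      rw [Finsupp.single_eq_of_ne]
      intro h
      rw [h] at hR
      exact hR hR'
  have hmem : y ∈ L (sD R0 (r : ℤ) -
      ∑ R' ∈ hfin.toFinset.erase R0, (Finsupp.single R' (1 : ℤ) : Divisor k F)) := by
    intro R
    rw [Finsupp.sub_apply, hsumapply]
    have hy := (mem_L_sD R0).1 hyL
    by_cases hR : R ∈ hfin.toFinset.erase R0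
    · rw [if_pos hR]
      have hR' := Finset.mem_erase.1 hR
      have hR'' := (Set.Finite.mem_toFinset hfin).1 hR'.2
      rw [sD_apply_of_ne R0 _ hR'.1, zero_sub]
      exact lt_one_iff_le_exp_neg_one.1 (hyvan R hR'.1 hR''.1 hR''.2)
    · rw [if_neg hR, sub_zero]
      by_cases hRR : R = R0
      · subst hRR
        rw [sD_apply_self]
        exact hy.1
      · rw [sD_apply_of_ne R0 _ hRR, exp_zero]
        exact hy.2 R hRR
  have hdeg : 0 ≤ (sD R0 (r : ℤ) -
      ∑ R' ∈ hfin.toFinset.erase R0, (Finsupp.single R' (1 : ℤ) : Divisor k F)).deg := by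
    by_contra hneg
    push Not at hneg
    have hbot := L_eq_bot_of_deg_neg hF hneg
    rw [hbot, Submodule.mem_bot] at hmem
    exact hy0 hmem
  rw [deg_sub, deg_sD R0 hR0'.1, deg_sum] at hdeg
  have hsum : ∑ R' ∈ hfin.toFinset.erase R0,
      Divisor.deg (Finsupp.single R' (1 : ℤ) : Divisor k F) =
      ((hfin.toFinset.erase R0).card : ℤ) := by
    rw [Finset.card_eq_sum_ones]
    push_cast
    apply Finset.sum_congr rfl
    intro R' hR'
    have hR'' := (Set.Finite.mem_toFinset hfin).1 (Finset.mem_erase.1 hR').2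
    rw [deg_single, hR''.1]
    simp
  rw [hsum, Finset.card_erase_of_mem hR0] at hdeg
  have hpos : 0 < hfin.toFinset.card := Finset.card_pos.2 ⟨R0, hR0⟩
  have h1 : ((hfin.toFinset.card - 1 : ℕ) : ℤ) = (hfin.toFinset.card : ℤ) - 1 := by
    rw [Nat.cast_sub hpos]
    simp
  rw [h1] at hdeg
  have h2 : (hfin.toFinset.card : ℤ) ≤ r + 1 := by linarith
  have h3 : hfin.toFinset.card ≤ r + 1 := by exact_mod_cast h2
  omega

end count

end Groth.Agent.Lib.Helper34.RH.Bombieri
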