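import Groth.Agent.Lib.Helper34.RH.Tensor
import Groth.Agent.S11000
import Mathlib.FieldTheory.Finite.Extension
import Mathlib.Algebra.Field.ULift
import Mathlib.Algebra.Module.ULift

/-!
# The key estimate of the Bombieri–Stepanov proof (helper34)
-/

set_option autoImplicit false

namespace Groth.Agent.Lib.Helper34.RH.Core

open FunFld TensorProduct Groth.Agent.Lib.Helper34.RH.Tensor Groth.Agent.Lib.Helper34.FunFldZetaLog

universe u

/-- Finite fields have extensions of every positive degree, in the same universe. -/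
theorem exists_extension (k : Type u) [Field k] [Finite k] (N : ℕ) (hN : 0 < N) :
    ∃ (k' : Type u) (_ : Field k') (_ : Algebra k k') (_ : Finite k'),
      Module.finrank k k' = N := by
  obtain ⟨p, hp⟩ : ∃ p, p = ringChar k := ⟨_, rfl⟩
  haveI : CharP k p := by rw [hp]; exact ringChar.charP k
  haveI : Fact p.Prime := ⟨CharP.char_is_prime k p⟩
  haveI : NeZero N := ⟨hN.ne'⟩
  refine ⟨ULift.{u} (FiniteField.Extension k p N), inferInstance, inferInstance, inferInstance, ?_⟩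
  rw [(ULift.moduleEquiv (R := k) (M := FiniteField.Extension k p N)).finrank_eq,
    FiniteField.finrank_extension]

/-- Comparing a sum over a group with the sum over a subgroup. -/
lemma sum_le_sum_add {G H : Type*} [Fintype G] [Fintype H] (ι : H → G)
    (hι : Function.Injective ι) (F : G → ℕ) (M : ℕ) (hF : ∀ g, F g ≤ M) :
    ∑ g, F g ≤ ∑ h, F (ι h) + (Fintype.card G - Fintype.card H) * M := by
  classical
  rw [← Finset.sum_add_sum_compl (Finset.univ.image ι) F,
    Finset.sum_image (fun a _ b _ h => hι h)]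
  apply Nat.add_le_add_left
  refine (Finset.sum_le_card_nsmul _ _ M (fun g _ => hF g)).trans ?_
  rw [Finset.card_compl, Finset.card_image_of_injective _ hι, Finset.card_univ, smul_eq_mul]

section main

variable {k X K E : Type u} [Field k] [Field X] [Field K] [Field E]
  [Algebra k X] [Algebra k K] [Algebra k E] [Algebra X K] [Algebra X E] [Algebra K E]
  [IsScalarTower k X E] [IsScalarTower k K E] [IsScalarTower X K E]
  [Finite k] [FiniteDimensional X E] [IsGalois X E]

/-- The final real-number estimate. -/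
lemma final_estimate (a b Nn Q qm c : ℝ) (hb1 : 1 ≤ b) (hba : b ≤ a) (hc : 0 ≤ c) (hqm : 0 ≤ qm)
    (h1 : b * Nn ≤ b * (Q + c * qm))
    (h2 : a * (Q + 1) ≤ b * Nn + (a - b) * (Q + c * qm)) :
    |Nn - Q - 1| ≤ a * c * qm := by
  have hbpos : 0 < b := lt_of_lt_of_le one_pos hb1
  have hcq : 0 ≤ c * qm := mul_nonneg hc hqm
  have hup : Nn ≤ Q + c * qm := le_of_mul_le_mul_left h1 hbpos
  rw [abs_le]
  constructor
  · -- lower bound
    have h3 : b * (Nn - Q - 1) ≥ -((a - b) * (c * qm)) := by nlinarith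
    have h4 : (a - b) * (c * qm) ≤ b * (a * (c * qm)) := by
      have : a - b ≤ b * a := by nlinarith
      calc (a - b) * (c * qm) ≤ (b * a) * (c * qm) := mul_le_mul_of_nonneg_right this hcq
        _ = b * (a * (c * qm)) := by ring
    have h5 : b * (Nn - Q - 1) ≥ b * (-(a * c * qm)) := by nlinarith
    exact le_of_mul_le_mul_left h5 hbpos
  · have : c * qm ≤ a * (c * qm) := by
      have ha1 : 1 ≤ a := hb1.trans hba
      nlinarith
    nlinarith

theorem Nr_bound (hX : IsFunctionField k X) (hK : IsFunctionField k K)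
    (hE : IsFunctionField k E) (hNX : ∀ n, 0 < n → Nr hX n = Nat.card k ^ n + 1) :
    ∃ C : ℝ, ∃ m0 : ℕ, ∀ m, m0 ≤ m →
      |(Nr hK (2 * m) : ℝ) - (Nat.card k : ℝ) ^ (2 * m) - 1| ≤ C * (Nat.card k : ℝ) ^ m := by
  classical
  have hgX : IsGeometric k X := Groth.Agent.S11000.result k X hX
  have hgK : IsGeometric k K := Groth.Agent.S11000.result k K hK
  have hgE : IsGeometric k E := Groth.Agent.S11000.result k E hE
  haveI : FiniteDimensional K E := Module.Finite.of_restrictScalars_finite X K E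
  haveI : FiniteDimensional X K := FiniteDimensional.left X K E
  haveI : IsGalois K E := IsGalois.tower_top_of_isGalois X K E
  obtain ⟨p, hp⟩ : ∃ p, p = ringChar k := ⟨_, rfl⟩
  haveI : CharP k p := by rw [hp]; exact ringChar.charP k
  haveI : Fact p.Prime := ⟨CharP.char_is_prime k p⟩
  obtain ⟨e, he⟩ : ∃ e : ℕ, Nat.card k = p ^ e := by
    haveI := Fintype.ofFinite k
    obtain ⟨n, -, hn⟩ := FiniteField.card k p
    exact ⟨n, by rw [Nat.card_eq_fintype_card, hn]⟩
  obtain ⟨g, hg⟩ : ∃ g, g = genus k E := ⟨_, rfl⟩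
  obtain ⟨a_, ha_⟩ : ∃ a_, a_ = Module.finrank X E := ⟨_, rfl⟩
  obtain ⟨b_, hb_⟩ : ∃ b_, b_ = Module.finrank K E := ⟨_, rfl⟩
  have hb1 : 1 ≤ b_ := by rw [hb_]; exact Module.finrank_pos
  have hba : b_ ≤ a_ := by
    rw [ha_, hb_, ← Module.finrank_mul_finrank X K E]
    exact Nat.le_mul_of_pos_left _ Module.finrank_pos
  refine ⟨(a_ : ℝ) * (2 * g + 1), (g + 1) ^ 4, fun m hm => ?_⟩
  have hq2 : 2 ≤ Nat.card k := Finite.one_lt_card
  have hmpos : 0 < m := lt_of_lt_of_le (by positivity) hm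
  obtain ⟨f, hf⟩ : ∃ f, f = (Module.finrank X E).factorial := ⟨_, rfl⟩
  have hfpos : 0 < f := by rw [hf]; exact Nat.factorial_pos _
  have hNpos : 0 < 2 * m * f := by positivity
  obtain ⟨k', _, _, _, hk'⟩ := exists_extension k (2 * m * f) hNpos
  haveI : FiniteDimensional k k' := Module.Finite.of_finite
  haveI : Fact (IsField (k' ⊗[k] X)) := ⟨hgX k' inferInstance⟩
  haveI : Fact (IsField (k' ⊗[k] K)) := ⟨hgK k' inferInstance⟩
  haveI : Fact (IsField (k' ⊗[k] E)) := ⟨hgE k' inferInstance⟩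
  obtain ⟨τ, hτ⟩ : ∃ τ : k' ≃ₐ[k] k', ∀ c, τ c = c ^ (Nat.card k ^ (2 * m)) := by
    letI := Fintype.ofFinite k
    haveI : Algebra.IsAlgebraic k k' := Algebra.IsAlgebraic.of_finite k k'
    refine ⟨FiniteField.frobeniusAlgEquivOfAlgebraic k k' ^ (2 * m), fun c => ?_⟩
    rw [AlgEquiv.coe_pow, FiniteField.coe_frobeniusAlgEquivOfAlgebraic_iterate,
      Nat.card_eq_fintype_card]
  have hqn : Nat.card k ^ (2 * m) = p ^ (2 * (e * m)) := by
    rw [he, ← pow_mul]
    congr 1
    ring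
  have hpa : p ^ (e * m) = Nat.card k ^ m := by rw [he, ← pow_mul]
  have hbig : (g + 1) ^ 4 < p ^ (2 * (e * m)) := by
    rw [← hqn]
    calc (g + 1) ^ 4 ≤ m := hm
      _ < 2 ^ m := Nat.lt_two_pow_self
      _ ≤ Nat.card k ^ m := Nat.pow_le_pow_left hq2 m
      _ ≤ Nat.card k ^ (2 * m) := Nat.pow_le_pow_right (by omega) (by omega)
  obtain ⟨M, hM⟩ : ∃ M, M = Nat.card k ^ (2 * m) + (2 * g + 1) * Nat.card k ^ m := ⟨_, rfl⟩
  have hfix : ∀ σ : E ≃ₐ[k] E, Fix τ σ ≤ M := by
    intro σ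
    have := fix_le hE hgE p (e * m) hqn τ hτ σ (by rw [← hg]; exact hbig)
    rw [← hqn, hpa, ← hg] at this
    rw [hM]
    exact this
  have hSX := sum_fix (Y := X) (E := E) hX hgX hE hgE (n := 2 * m) (f := f) (by omega) hk'
    (fun j hj hjle => by rw [hf]; exact Nat.dvd_factorial hj hjle) τ hτ
  have hSK := sum_fix (Y := K) (E := E) hK hgK hE hgE (n := 2 * m) (f := f) (by omega) hk'
    (fun j hj hjle => by
      rw [hf]
      exact Nat.dvd_factorial hj (hjle.trans (by rw [← ha_, ← hb_]; exact hba))) τ hτ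
  rw [hNX _ (by omega), ← ha_] at hSX
  rw [← hb_] at hSK
  have hcmp := sum_le_sum_add (G := E ≃ₐ[X] E) (H := E ≃ₐ[K] E) (AlgEquiv.restrictScalars X)
    (AlgEquiv.restrictScalars_injective X) (fun σ => Fix τ (σ.restrictScalars k)) M
    (fun σ => hfix _)
  have hcardG : Fintype.card (E ≃ₐ[X] E) = a_ := by
    rw [ha_, ← Nat.card_eq_fintype_card]
    exact IsGalois.card_aut_eq_finrank X E
  have hcardH : Fintype.card (E ≃ₐ[K] E) = b_ := by
    rw [hb_, ← Nat.card_eq_fintype_card]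
    exact IsGalois.card_aut_eq_finrank K E
  have hsumH : ∑ h : E ≃ₐ[K] E, Fix τ ((h.restrictScalars X).restrictScalars k) =
      ∑ σ : E ≃ₐ[K] E, Fix τ (σ.restrictScalars k) := Finset.sum_congr rfl (fun h _ => rfl)
  rw [hcardG, hcardH] at hcmp
  rw [hsumH, hSK, hSX] at hcmp
  have hSKle : b_ * Nr hK (2 * m) ≤ b_ * M := by
    rw [← hSK]
    refine (Finset.sum_le_card_nsmul _ _ M (fun σ _ => hfix _)).trans ?_
    rw [Finset.card_univ, hcardH, smul_eq_mul]
  -- to the reals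
  have h1 : (b_ : ℝ) * (Nr hK (2 * m) : ℝ) ≤
      (b_ : ℝ) * ((Nat.card k : ℝ) ^ (2 * m) + (2 * (g : ℝ) + 1) * (Nat.card k : ℝ) ^ m) := by
    have := hSKle
    rw [hM] at this
    exact_mod_cast this
  have h2 : (a_ : ℝ) * ((Nat.card k : ℝ) ^ (2 * m) + 1) ≤
      (b_ : ℝ) * (Nr hK (2 * m) : ℝ) + ((a_ : ℝ) - (b_ : ℝ)) *
        ((Nat.card k : ℝ) ^ (2 * m) + (2 * (g : ℝ) + 1) * (Nat.card k : ℝ) ^ m) := by
    have := hcmp
    rw [hM] at this
    have h3 : ((a_ - b_ : ℕ) : ℝ) = (a_ : ℝ) - (b_ : ℝ) := Nat.cast_sub hba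
    rw [← h3]
    exact_mod_cast this
  have := final_estimate (a_ : ℝ) (b_ : ℝ) (Nr hK (2 * m) : ℝ) ((Nat.card k : ℝ) ^ (2 * m))
    ((Nat.card k : ℝ) ^ m) (2 * (g : ℝ) + 1) (by exact_mod_cast hb1) (by exact_mod_cast hba)
    (by positivity) (by positivity) h1 h2
  exact this

end main

end Groth.Agent.Lib.Helper34.RH.Core
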