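import Groth.Agent.Lib.Helper44.FunFldGalois
import Groth.Agent.Lib.Helper34.FunFldConstFin
import Mathlib.FieldTheory.Galois.Basic

/-!
# Counting places fixed by twisted Frobenius maps (helper34)

`E'/Y'` a finite Galois extension of function fields over `k'`, `φ` a ring automorphism of `E'`
preserving `Y'` and the constants.  Then
`∑_{τ ∈ Gal(E'/Y')} #{R : deg R = 1, R ∘ τ ∘ φ = R} = [E' : Y'] · #{P' : deg P' = 1, P' ∘ φ = P'}`
provided every place above a fixed place of degree one has degree one.
-/

set_option autoImplicit false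

namespace Groth.Agent.Lib.Helper34.RH.Count

open FunFld WithZero Groth.Agent.Lib.Helper88 Groth.Agent.Lib.Helper88.FF
  Groth.Agent.Lib.Helper44.FFExt Groth.Agent.Lib.Helper91.FunFldFin

section abstract

variable {Γ S : Type*} [Group Γ] [Finite Γ] [Finite S]
  (act : Γ → S → S) (h1 : ∀ s, act 1 s = s)
  (hmul : ∀ g h s, act (g * h) s = act h (act g s))
  (htrans : ∀ s t, ∃ g, act g s = t)

include h1 hmul in
lemma card_transporter_eq (s t : S) (g0 : Γ) (hg0 : act g0 s = t) :
    Nat.card {g : Γ // act g s = t} = Nat.card {g : Γ // act g s = s} := by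
  apply Nat.card_congr
  refine
    { toFun := fun g => ⟨g.1 * g0⁻¹, ?_⟩
      invFun := fun g => ⟨g.1 * g0, ?_⟩
      left_inv := fun g => Subtype.ext (by simp)
      right_inv := fun g => Subtype.ext (by simp) }
  · rw [hmul, g.2, ← hg0, ← hmul, mul_inv_cancel, h1]
  · rw [hmul, g.2, hg0]

include h1 hmul htrans in
lemma card_transporter_mul (s t : S) :
    Nat.card {g : Γ // act g s = t} * Nat.card S = Nat.card Γ := by
  classical
  letI := Fintype.ofFinite S
  have h2 : Nat.card Γ = ∑ u : S, Nat.card {g : Γ // act g s = u} := by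
    rw [← Nat.card_sigma]
    exact (Nat.card_congr (Equiv.sigmaFiberEquiv (fun g : Γ => act g s))).symm
  have h3 : ∀ u : S, Nat.card {g : Γ // act g s = u} = Nat.card {g : Γ // act g s = t} := by
    intro u
    obtain ⟨g0, hg0⟩ := htrans s u
    obtain ⟨g1, hg1⟩ := htrans s t
    rw [card_transporter_eq act h1 hmul s u g0 hg0, card_transporter_eq act h1 hmul s t g1 hg1]
  rw [h2, Finset.sum_congr rfl (fun u _ => h3 u), Finset.sum_const, Finset.card_univ,
    smul_eq_mul, mul_comm, Nat.card_eq_fintype_card]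

include h1 hmul htrans in
/-- For a transitive action and a bijection `ψ` of the set, the pairs `(g, s)` with
`ψ (g · s) = s` number `|Γ|`. -/
theorem card_pairs [Nonempty S] (ψ : S → S) (hψ : Function.Bijective ψ) :
    Nat.card {p : Γ × S // ψ (act p.1 p.2) = p.2} = Nat.card Γ := by
  classical
  letI := Fintype.ofFinite S
  have e : {p : Γ × S // ψ (act p.1 p.2) = p.2} ≃ Σ s : S, {g : Γ // ψ (act g s) = s} :=
    { toFun := fun p => ⟨p.1.2, ⟨p.1.1, p.2⟩⟩
      invFun := fun q => ⟨(q.2.1, q.1), q.2.2⟩
      left_inv := fun p => rfl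
      right_inv := fun q => rfl }
  rw [Nat.card_congr e, Nat.card_sigma]
  obtain ⟨s0⟩ := ‹Nonempty S›
  · obtain ⟨t0, ht0⟩ := hψ.2 s0
    have h4 : ∀ s : S, Nat.card {g : Γ // ψ (act g s) = s} =
        Nat.card {g : Γ // act g s0 = s0} := by
      intro s
      obtain ⟨t, ht⟩ := hψ.2 s
      have : Nat.card {g : Γ // ψ (act g s) = s} = Nat.card {g : Γ // act g s = t} := by
        apply Nat.card_congr
        apply Equiv.subtypeEquivRight
        intro g
        constructor
        · intro h
          apply hψ.1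
          rw [h, ht]
        · intro h
          rw [h, ht]
      rw [this]
      have a1 := card_transporter_mul act h1 hmul htrans s t
      have a2 := card_transporter_mul act h1 hmul htrans s0 s0
      have hS : 0 < Nat.card S := Nat.card_pos
      exact Nat.eq_of_mul_eq_mul_right hS (a1.trans a2.symm)
    rw [Finset.sum_congr rfl (fun s _ => h4 s), Finset.sum_const, Finset.card_univ, smul_eq_mul,
      mul_comm, ← Nat.card_eq_fintype_card, card_transporter_mul act h1 hmul htrans s0 s0]

end abstract

section ring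

variable {k' E' : Type*} [Field k'] [Field E'] [Algebra k' E']

/-- Transport of a place along a ring automorphism preserving the constants:
`(comapRing γ R)(z) = R (γ z)`. -/
def comapRing (γ : E' ≃+* E')
    (hγ : ∀ c : k', ∃ c' : k', γ (algebraMap k' E' c) = algebraMap k' E' c') (R : Place k' E') :
    Place k' E' :=
  ⟨R.1.comap (γ : E' →+* E'), fun c => by
      obtain ⟨c', hc'⟩ := hγ c
      show R.1 (γ (algebraMap k' E' c)) ≤ 1
      rw [hc']
      exact R.2.1 c',
    fun v => by
      obtain ⟨x, hx⟩ := R.2.2 v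
      refine ⟨γ.symm x, ?_⟩
      show R.1 (γ (γ.symm x)) = v
      rw [γ.apply_symm_apply, hx]⟩

@[simp] lemma comapRing_apply (γ : E' ≃+* E')
    (hγ : ∀ c : k', ∃ c' : k', γ (algebraMap k' E' c) = algebraMap k' E' c') (R : Place k' E')
    (z : E') : (comapRing γ hγ R).1 z = R.1 (γ z) := rfl

lemma comapRing_injective (γ : E' ≃+* E')
    (hγ : ∀ c : k', ∃ c' : k', γ (algebraMap k' E' c) = algebraMap k' E' c') :
    Function.Injective (comapRing γ hγ) := by
  intro R₁ R₂ h
  apply place_ext
  intro z
  have := congrArg (fun R : Place k' E' => R.1 (γ.symm z)) h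
  simpa using this

end ring

section count

variable {k' Y' E' : Type*} [Field k'] [Field Y'] [Field E'] [Algebra k' Y'] [Algebra Y' E']
  [Algebra k' E'] [IsScalarTower k' Y' E'] [FiniteDimensional Y' E'] [IsGalois Y' E'] [Finite k']

/-- **Counting pairs**: automorphism `τ ∈ Gal(E'/Y')` and degree-one place `R` fixed by `τ ∘ φ`. -/
theorem card_fixed_pairs (hY' : IsFunctionField k' Y') (hE' : IsFunctionField k' E')
    (φ : E' ≃+* E') (φY : Y' ≃+* Y')
    (hφc : ∀ c : k', ∃ c' : k', φ (algebraMap k' E' c) = algebraMap k' E' c')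
    (hφY : ∀ y, φ (algebraMap Y' E' y) = algebraMap Y' E' (φY y))
    (H1 : ∀ (P' : Place k' Y') (R : Place k' E'), P'.deg = 1 → (∀ y, P'.1 (φY y) = P'.1 y) →
      IsOver R P' → R.deg = 1) :
    Nat.card {p : (E' ≃ₐ[Y'] E') × Place k' E' //
        p.2.deg = 1 ∧ ∀ z, p.2.1 (p.1 (φ z)) = p.2.1 z} =
      Module.finrank Y' E' *
        Nat.card {P' : Place k' Y' // P'.deg = 1 ∧ ∀ y, P'.1 (φY y) = P'.1 y} := by
  classical
  haveI : Algebra.IsAlgebraic Y' E' := Algebra.IsAlgebraic.of_finite Y' E'
  -- finiteness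
  haveI hfinE : Finite {R : Place k' E' // R.deg = 1} :=
    (finite_places_deg_eq hE' 1).to_subtype
  haveI hfinY : Finite {P' : Place k' Y' // P'.deg = 1 ∧ ∀ y, P'.1 (φY y) = P'.1 y} := by
    have : {P' : Place k' Y' | P'.deg = 1 ∧ ∀ y, P'.1 (φY y) = P'.1 y}.Finite :=
      (finite_places_deg_eq hY' 1).subset (fun P' h => h.1)
    exact this.to_subtype
  letI := Fintype.ofFinite {P' : Place k' Y' // P'.deg = 1 ∧ ∀ y, P'.1 (φY y) = P'.1 y}
  -- the map to the place below
  have hbelow : ∀ R : Place k' E', ∃ P' : Place k' Y', IsOver R P' :=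
    fun R => exists_isOver_below (K := Y') R
  choose below hbelow_spec using hbelow
  have hbelow_eq : ∀ {R : Place k' E'} {P' : Place k' Y'}, IsOver R P' → below R = P' :=
    fun h => isOver_unique_below (hbelow_spec _) h
  -- the place below a fixed place is fixed
  have hfixbelow : ∀ (τ : E' ≃ₐ[Y'] E') (R : Place k' E'), R.deg = 1 →
      (∀ z, R.1 (τ (φ z)) = R.1 z) →
      (below R).deg = 1 ∧ ∀ y, (below R).1 (φY y) = (below R).1 y := by
    intro τ R hdeg hfix
    have hover := hbelow_spec R
    refine ⟨?_, ?_⟩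
    · have h1 := Groth.Agent.Lib.Helper34.FunFldConstFin.deg_dvd_of_isOver hover
      rw [hdeg] at h1
      exact Nat.dvd_one.1 h1
    · intro y
      have he := isOverWith_ramIdx hover
      have h2 := hfix (algebraMap Y' E' y)
      rw [hφY, τ.commutes, he, he] at h2
      exact (pow_left_inj₀ zero_le' zero_le' (ramIdx_pos hover).ne').1 h2
  -- fibrewise count
  let A := {p : (E' ≃ₐ[Y'] E') × Place k' E' // p.2.deg = 1 ∧ ∀ z, p.2.1 (p.1 (φ z)) = p.2.1 z}
  let FY := {P' : Place k' Y' // P'.deg = 1 ∧ ∀ y, P'.1 (φY y) = P'.1 y}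
  let f : A → FY := fun a => ⟨below a.1.2, hfixbelow a.1.1 a.1.2 a.2.1 a.2.2⟩
  haveI hfinA : Finite A := by
    have : Function.Injective (fun a : A =>
        ((a.1.1, ⟨a.1.2, a.2.1⟩) : (E' ≃ₐ[Y'] E') × {R : Place k' E' // R.deg = 1})) := by
      intro a b h
      apply Subtype.ext
      have h1 := congrArg Prod.fst h
      have h2 := congrArg (fun p => (p.2 : Place k' E')) h
      exact Prod.ext h1 h2
    exact Finite.of_injective _ this
  have hcard : Nat.card A = ∑ P' : FY, Nat.card {a : A // f a = P'} := by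
    rw [← Nat.card_sigma]
    exact (Nat.card_congr (Equiv.sigmaFiberEquiv f)).symm
  have hfib : ∀ P' : FY, Nat.card {a : A // f a = P'} = Nat.card (E' ≃ₐ[Y'] E') := by
    intro P'
    obtain ⟨P', hP'deg, hP'fix⟩ := P'
    -- the set of places above `P'` with its action
    let S := {R : Place k' E' // IsOver R P'}
    haveI : Finite S := (finite_isOver (K' := E') hY' P').to_subtype
    haveI : Nonempty S := by
      obtain ⟨R, hR⟩ := exists_isOver_above (K' := E') hY' P'
      exact ⟨⟨R, hR⟩⟩
    let act : (E' ≃ₐ[Y'] E') → S → S := fun τ R => ⟨comapPlace τ R.1, isOver_comapPlace R.2 τ⟩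
    let ψ : S → S := fun R => ⟨comapRing φ hφc R.1, by
      obtain ⟨e, he⟩ := R.2
      refine ⟨e, fun y => ?_⟩
      show R.1.1 (φ (algebraMap Y' E' y)) = P'.1 y ^ e
      rw [hφY, he, hP'fix]⟩
    have hψinj : Function.Injective ψ := by
      intro R₁ R₂ h
      apply Subtype.ext
      exact comapRing_injective φ hφc (congrArg Subtype.val h)
    have hψ : Function.Bijective ψ := Finite.injective_iff_bijective.1 hψinj
    have hpairs := card_pairs act (fun s => Subtype.ext (comapPlace_one s.1))
      (fun g h s => Subtype.ext (comapPlace_mul g h s.1))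
      (fun s t => by
        obtain ⟨σ, hσ⟩ := exists_comapPlace_eq_of_isOver s.2 t.2
        exact ⟨σ, Subtype.ext hσ⟩) ψ hψ
    rw [← hpairs]
    apply Nat.card_congr
    refine
      { toFun := fun a => ⟨(a.1.1.1, ⟨a.1.1.2, ?_⟩), ?_⟩
        invFun := fun b => ⟨⟨(b.1.1, b.1.2.1), ⟨H1 P' b.1.2.1 hP'deg hP'fix b.1.2.2, ?_⟩⟩, ?_⟩
        left_inv := fun a => rfl
        right_inv := fun b => rfl }
    · have h := congrArg Subtype.val a.2
      have h' : below a.1.1.2 = P' := h
      have h'' := hbelow_spec a.1.1.2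
      rwa [h'] at h''
    · apply Subtype.ext
      apply place_ext
      intro z
      exact a.1.2.2 z
    · intro z
      have h := congrArg (fun R : S => R.1.1 z) b.2
      exact h
    · apply Subtype.ext
      exact hbelow_eq b.1.2.2
  show Nat.card A = Module.finrank Y' E' * Nat.card FY
  rw [hcard, Finset.sum_congr rfl (fun P' _ => hfib P'), Finset.sum_const, Finset.card_univ,
    smul_eq_mul, IsGalois.card_aut_eq_finrank, mul_comm, Nat.card_eq_fintype_card]

end count

end Groth.Agent.Lib.Helper34.RH.Count
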