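import Groth.Agent.Lib.Helper34.RH.Reduce

/-!
# The Riemann hypothesis for function fields over finite fields (helper34)
-/

set_option autoImplicit false

namespace Groth.Agent.Lib.Helper34.RH.Final

open FunFld Groth.Agent.Lib.Helper34.RH.Reduce

variable {k K : Type*} [Field k] [Field K] [Algebra k K] [Finite k]

/-- **Riemann hypothesis**: there is a factorisation `L_K(t) = ∏ (1 - αᵢ t)` with all
`|αᵢ|² = q`. -/
theorem exists_factorization (hK : IsFunctionField k K) :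
    ∃ α : Fin (2 * genus k K) → ℂ,
      PowerSeries.map (Int.castRingHom ℂ) (numerZ k K) =
        ((∏ i, (1 - Polynomial.C (α i) * Polynomial.X) : Polynomial ℂ) : PowerSeries ℂ) ∧
      ∀ i, ‖α i‖ ^ 2 = (Nat.card k : ℝ) := by
  obtain ⟨α, -, hα, hpair⟩ := Groth.Agent.S11040.result k K hK
  refine ⟨α, hα, fun i => ?_⟩
  have hq : (0 : ℝ) < (Nat.card k : ℝ) := by
    have : 0 < Nat.card k := Nat.card_pos
    exact_mod_cast this
  have h1 := norm_sq_le hK α hα i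
  have h2 := norm_sq_le hK α hα (Fin.rev i)
  have h3 : ‖α i‖ * ‖α (Fin.rev i)‖ = (Nat.card k : ℝ) := by
    rw [← norm_mul, hpair i, Complex.norm_natCast]
  have h4 : ‖α i‖ ^ 2 * ‖α (Fin.rev i)‖ ^ 2 = (Nat.card k : ℝ) * (Nat.card k : ℝ) := by
    rw [← mul_pow, h3, sq]
  by_contra hne
  have hlt : ‖α i‖ ^ 2 < (Nat.card k : ℝ) := lt_of_le_of_ne h1 hne
  have h5 : ‖α i‖ ^ 2 * ‖α (Fin.rev i)‖ ^ 2 ≤ ‖α i‖ ^ 2 * (Nat.card k : ℝ) :=
    mul_le_mul_of_nonneg_left h2 (by positivity)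
  have h6 : ‖α i‖ ^ 2 * (Nat.card k : ℝ) < (Nat.card k : ℝ) * (Nat.card k : ℝ) :=
    mul_lt_mul_of_pos_right hlt hq
  linarith

end Groth.Agent.Lib.Helper34.RH.Final
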