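import Groth.Agent.Lib.Helper34.FunFldConstZeta
import Groth.Agent.S11039
import Groth.Agent.S11040

/-!
# The genus does not change in a constant field extension of finite fields (helper34)
-/

set_option autoImplicit false

namespace Groth.Agent.Lib.Helper34.RH.Genus

open FunFld Polynomial Groth.Agent.Lib.Helper34.FunFldConstZeta

/-- `∏ (1 - βᵢ X)` with all `βᵢ ≠ 0` has degree the number of factors. -/
lemma natDegree_prod_one_sub {ι : Type*} (s : Finset ι) (β : ι → ℂ) (hβ : ∀ i ∈ s, β i ≠ 0) :
    (∏ i ∈ s, (1 - C (β i) * X : Polynomial ℂ)).natDegree = s.card := by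
  have hdeg : ∀ i ∈ s, (1 - C (β i) * X : Polynomial ℂ).natDegree = 1 := by
    intro i hi
    rw [natDegree_sub_eq_right_of_natDegree_lt]
    · exact natDegree_C_mul_X _ (hβ i hi)
    · rw [natDegree_one, natDegree_C_mul_X _ (hβ i hi)]
      exact Nat.one_pos
  rw [natDegree_prod]
  · rw [Finset.sum_congr rfl hdeg, Finset.sum_const, smul_eq_mul, mul_one]
  · intro i hi h0
    have := hdeg i hi
    rw [h0, natDegree_zero] at this
    exact absurd this (by norm_num)

variable {k k' K K' : Type*} [Field k] [Field k'] [Field K] [Field K']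
  [Algebra k k'] [Algebra k K] [Algebra K K'] [Algebra k' K'] [Finite k] [Finite k']

theorem genus_constExt (hK : IsFunctionField k K) (hK' : IsFunctionField k' K')
    (hce : IsConstExt k K k' K') : genus k' K' = genus k K := by
  obtain ⟨α, -, hα, hpair⟩ := Groth.Agent.S11040.result k K hK
  have hq : (Nat.card k : ℂ) ≠ 0 := by
    have : 0 < Nat.card k := Nat.card_pos
    exact_mod_cast this.ne'
  have hα0 : ∀ i, α i ≠ 0 := by
    intro i h0
    have := hpair i
    rw [h0, zero_mul] at this
    exact hq this.symm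
  have h1 := numerZ_constExt hK hK' hce Finset.univ α hα
  obtain ⟨P, hP⟩ : ∃ P : Polynomial ℂ,
      P = ∏ i, (1 - C (α i ^ Module.finrank k k') * X : Polynomial ℂ) := ⟨_, rfl⟩
  rw [← hP] at h1
  have hdeg : P.natDegree = 2 * genus k K := by
    rw [hP, natDegree_prod_one_sub _ _ (fun i _ => pow_ne_zero _ (hα0 i)), Finset.card_univ,
      Fintype.card_fin]
  obtain ⟨hvan, hne, -⟩ := Groth.Agent.S11039.result k' K' hK'
  have hcoeff : ∀ n, ((PowerSeries.coeff n (numerZ k' K') : ℤ) : ℂ) = P.coeff n := by
    intro n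
    have := congrArg (PowerSeries.coeff n) h1
    rw [PowerSeries.coeff_map, Polynomial.coeff_coe] at this
    exact this
  have hle : 2 * genus k' K' ≤ 2 * genus k K := by
    rw [← hdeg]
    apply le_natDegree_of_ne_zero
    rw [← hcoeff]
    exact_mod_cast hne
  have hge : 2 * genus k K ≤ 2 * genus k' K' := by
    by_contra hlt
    push Not at hlt
    have h0 := hvan _ hlt
    have h2 := hcoeff (2 * genus k K)
    rw [h0, Int.cast_zero, ← hdeg] at h2
    have hP0 : P ≠ 0 := by
      intro hP0
      have h3 := hcoeff 0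
      rw [hP0, coeff_zero] at h3
      have h4 : P.coeff 0 = 1 := by
        rw [hP, coeff_zero_eq_eval_zero, eval_prod]
        simp
      rw [hP0, coeff_zero] at h4
      exact zero_ne_one h4
    exact leadingCoeff_ne_zero.2 hP0 h2.symm
  omega

end Groth.Agent.Lib.Helper34.RH.Genus
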