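import Groth.Agent.Lib.Helper34.RH.TowerRH
import Groth.Agent.Lib.Helper44.FunFldExt3
import Groth.Agent.S11005
import Groth.Agent.S10994
import Groth.Agent.Lib.Helper97.FunFldSep
import Groth.Agent.Lib.Helper88.FunFldTransc
import Mathlib.FieldTheory.LinearDisjoint
import Mathlib.FieldTheory.Normal.Closure
import Mathlib.FieldTheory.SeparableClosure
import Mathlib.FieldTheory.IsAlgClosed.AlgebraicClosure

/-!
# Reduction of the Riemann hypothesis to the Galois case (helper34)
-/

set_option autoImplicit false

namespace Groth.Agent.Lib.Helper34.RH.Reduce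

open FunFld TensorProduct

universe u v

/-- The Galois closure of a finite separable extension, as an abstract field. -/
theorem exists_galois_closure (M K : Type v) [Field M] [Field K] [Algebra M K]
    [FiniteDimensional M K] [Algebra.IsSeparable M K] :
    ∃ (E : Type v) (_ : Field E) (_ : Algebra M E) (_ : Algebra K E) (_ : IsScalarTower M K E),
      FiniteDimensional M E ∧ IsGalois M E := by
  have : Algebra.IsAlgebraic M K := Algebra.IsAlgebraic.of_finite M K
  have : IsAlgClosure M (AlgebraicClosure K) := inferInstance
  have : Normal M (AlgebraicClosure K) := inferInstance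
  refine ⟨IntermediateField.normalClosure M K (AlgebraicClosure K), inferInstance, inferInstance,
    inferInstance, inferInstance, inferInstance, ?_⟩
  have : ∀ f : K →ₐ[M] (AlgebraicClosure K), Algebra.IsSeparable M f.fieldRange := fun f =>
    AlgEquiv.Algebra.isSeparable (AlgEquiv.ofInjectiveField f)
  have : Algebra.IsSeparable M (IntermediateField.normalClosure M K (AlgebraicClosure K)) := by
    rw [normalClosure_def]
    infer_instance
  exact ⟨⟩

/-- A subfield containing the base of a finite Galois extension. -/
theorem isGalois_of_mem {M E k2 : Type*} [Field M] [Field E] [Algebra M E] [FiniteDimensional M E]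
    [IsGalois M E] [Field k2] [Algebra k2 E] (F : IntermediateField k2 E)
    (h : ∀ m : M, algebraMap M E m ∈ F) : FiniteDimensional F E ∧ IsGalois F E := by
  letI : Algebra M F := (RingHom.codRestrict (algebraMap M E) F.toSubring h).toAlgebra
  haveI : IsScalarTower M F E := IsScalarTower.of_algebraMap_eq (fun _ => rfl)
  exact ⟨Module.Finite.of_restrictScalars_finite M F E, IsGalois.tower_top_of_isGalois M F E⟩

section disjoint

variable {k : Type u} {K E : Type v} [Field k] [Field K] [Field E] [Algebra k K] [Algebra k E]
  [Algebra K E] [IsScalarTower k K E] [Finite k]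

/-- For a geometric `K/k` and a finite subextension `k2/k` of `E`, `[K k2 : K] = [k2 : k]`. -/
theorem rank_adjoin_eq (hg : IsGeometric k K) (k2 : IntermediateField k E)
    [FiniteDimensional k k2] :
    Module.finrank K (IntermediateField.adjoin K (k2 : Set E)) = Module.finrank k k2 := by
  obtain ⟨p, hp⟩ : ∃ p, p = ringChar k := ⟨_, rfl⟩
  haveI : CharP k p := by rw [hp]; exact ringChar.charP k
  haveI : Fact p.Prime := ⟨CharP.char_is_prime k p⟩
  haveI : NeZero (Module.finrank k k2) := ⟨Module.finrank_pos.ne'⟩
  let e1 : k2 ≃ₐ[k] FiniteField.Extension k p (Module.finrank k k2) :=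
    FiniteField.algEquivExtension k p (Module.finrank k k2) k2 rfl
  let e2 : k2 ≃ₐ[k] ULift.{u} (FiniteField.Extension k p (Module.finrank k k2)) :=
    e1.trans ULift.algEquiv.symm
  have hfield : IsField (k2 ⊗[k] K) := by
    have h1 : IsField (ULift.{u} (FiniteField.Extension k p (Module.finrank k k2)) ⊗[k] K) :=
      hg _ inferInstance
    exact (Algebra.TensorProduct.congr e2 (AlgEquiv.refl : K ≃ₐ[k] K)).toMulEquiv.isField h1
  have H : k2.LinearDisjoint K := IntermediateField.LinearDisjoint.of_isField hfield
  have h := H.adjoin_rank_eq_rank_left_of_isAlgebraic (Or.inl inferInstance)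
  unfold Module.finrank
  rw [h]

end disjoint

section constExt

open Groth.Agent.Lib.Helper34.FunFldZetaLog Groth.Agent.Lib.Helper34.FunFldZetaLog2
  Groth.Agent.Lib.Helper34.FunFldConstFin

variable {k k' K K' : Type*} [Field k] [Field k'] [Field K] [Field K']
  [Algebra k k'] [Algebra k K] [Algebra K K'] [Algebra k' K'] [Algebra k K']
  [IsScalarTower k k' K'] [IsScalarTower k K K'] [Finite k] [Finite k']

/-- The zeta function of a constant field extension (only the rank condition is needed). -/
theorem numerZ_constExt' (hrank : Module.finrank K K' = Module.finrank k k')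
    (hK : IsFunctionField k K) (hK' : IsFunctionField k' K')
    {ι : Type*} (s : Finset ι) (α : ι → ℂ)
    (hα : PowerSeries.map (Int.castRingHom ℂ) (numerZ k K) =
      ((∏ i ∈ s, (1 - Polynomial.C (α i) * Polynomial.X) : Polynomial ℂ) : PowerSeries ℂ)) :
    PowerSeries.map (Int.castRingHom ℂ) (numerZ k' K') =
      ((∏ i ∈ s, (1 - Polynomial.C (α i ^ Module.finrank k k') * Polynomial.X) : Polynomial ℂ) :
        PowerSeries ℂ) := by
  classical
  haveI : FiniteDimensional k k' := Module.Finite.of_finite
  have hn : 0 < Module.finrank k k' := Module.finrank_pos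
  haveI : FiniteDimensional K K' := Module.finite_of_finrank_pos (by rw [hrank]; exact hn)
  have hcard : (Nat.card k' : ℂ) = (Nat.card k : ℂ) ^ Module.finrank k k' := by
    rw [Module.natCard_eq_pow_finrank (K := k) (V := k')]
    push_cast
    rfl
  refine numerZ_of_Nr hK' s (fun i => α i ^ Module.finrank k k') (fun m hm => ?_)
  rw [Nr_constExt hrank hK hK' m, Nr_formula hK s α hα (Nat.mul_pos hm hn), hcard, pow_mul']
  congr 1
  apply Finset.sum_congr rfl
  intro i _
  rw [pow_mul']

end constExt

section gen

variable {F E : Type*} [Field F] [Field E] [Algebra F E]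

/-- The generator generates `F(x)`. -/
lemma adjoin_gen_eq_top (x : E) :
    IntermediateField.adjoin F ({IntermediateField.AdjoinSimple.gen F x} :
      Set (IntermediateField.adjoin F ({x} : Set E))) = ⊤ := by
  rw [eq_top_iff]
  intro y _
  have h1 : (IntermediateField.adjoin F ({IntermediateField.AdjoinSimple.gen F x} :
      Set (IntermediateField.adjoin F ({x} : Set E)))).map
        (IntermediateField.adjoin F ({x} : Set E)).val = IntermediateField.adjoin F ({x} : Set E) := by
    rw [IntermediateField.adjoin_map, Set.image_singleton]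
    rfl
  have h2 : (y : E) ∈ (IntermediateField.adjoin F ({IntermediateField.AdjoinSimple.gen F x} :
      Set (IntermediateField.adjoin F ({x} : Set E)))).map
        (IntermediateField.adjoin F ({x} : Set E)).val := by
    rw [h1]
    exact y.2
  obtain ⟨z, hz, hzy⟩ := h2
  have : z = y := Subtype.ext hzy
  rw [← this]
  exact hz

end gen

section main

variable {k : Type u} {M K : Type v} [Field k] [Field M] [Field K]
  [Algebra k M] [Algebra k K] [Algebra M K] [IsScalarTower k M K] [Finite k]

theorem norm_sq_le_of_galois (E : Type v) [Field E] [Algebra k E] [Algebra M E] [Algebra K E]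
    [IsScalarTower k M E] [IsScalarTower k K E] [IsScalarTower M K E]
    [FiniteDimensional M E] [IsGalois M E] (hK : IsFunctionField k K) (x : M) (hx : Transcendental k x)
    (hM : IntermediateField.adjoin k ({x} : Set M) = ⊤) {m : ℕ} (α : Fin m → ℂ)
    (hα : PowerSeries.map (Int.castRingHom ℂ) (numerZ k K) =
      ((∏ i, (1 - Polynomial.C (α i) * Polynomial.X) : Polynomial ℂ) : PowerSeries ℂ))
    (i : Fin m) : ‖α i‖ ^ 2 ≤ (Nat.card k : ℝ) := by
  classical
  have hgK : IsGeometric k K := Groth.Agent.S11000.result k K hK
  haveI : FiniteDimensional K E := Module.Finite.of_restrictScalars_finite M K E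
  haveI hfin2 : FiniteDimensional k (algebraicClosure k E) :=
    Groth.Agent.Lib.Helper44.FFExt.finiteDimensional_algebraicClosure (K := K) (K' := E) hK
  haveI : Finite (algebraicClosure k E) := Module.finite_of_finite k
  have hE2 : IsFunctionField (algebraicClosure k E) E :=
    Groth.Agent.Lib.Helper44.FFExt.isFunctionField_algebraicClosure (K := K) (K' := E) hK
  have hgE2 : IsGeometric (algebraicClosure k E) E := Groth.Agent.S11000.result _ E hE2
  -- the variable
  have hxEtr0 : Transcendental k (algebraMap M E x) :=
    (transcendental_algebraMap_iff (algebraMap M E).injective).2 hx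
  have hxEtr : Transcendental (algebraicClosure k E) (algebraMap M E x) :=
    hxEtr0.extendScalars _
  -- the fields `X2`, `K2`
  obtain ⟨X2, hX2def⟩ : ∃ X2 : IntermediateField (algebraicClosure k E) E,
      X2 = IntermediateField.adjoin (algebraicClosure k E) {algebraMap M E x} := ⟨_, rfl⟩
  obtain ⟨K2, hK2def⟩ : ∃ K2 : IntermediateField (algebraicClosure k E) E,
      K2 = IntermediateField.adjoin (algebraicClosure k E) (Set.range (algebraMap K E)) :=
    ⟨_, rfl⟩
  have hxX2 : algebraMap M E x ∈ X2 := by
    rw [hX2def]
    exact IntermediateField.mem_adjoin_simple_self _ _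
  have hKK2 : ∀ y : K, algebraMap K E y ∈ K2 := fun y => by
    rw [hK2def]
    exact IntermediateField.subset_adjoin _ _ ⟨y, rfl⟩
  have hxK2 : algebraMap M E x ∈ K2 := by
    rw [IsScalarTower.algebraMap_apply M K E]
    exact hKK2 _
  have hXK : X2 ≤ K2 := by
    rw [hX2def, IntermediateField.adjoin_simple_le_iff]
    exact hxK2
  have hX2ff := (Groth.Agent.S11005.result _ E hE2 hgE2 X2 ⟨_, hxX2, hxEtr⟩).1
  have hK2ff := (Groth.Agent.S11005.result _ E hE2 hgE2 K2 ⟨_, hxK2, hxEtr⟩).1
  -- genus zero
  have hgen : genus (algebraicClosure k E) X2 = 0 := by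
    refine ((Groth.Agent.S10994.result _ X2 hX2ff).2 ?_).1
    subst hX2def
    exact ⟨_, adjoin_gen_eq_top _⟩
  -- `M ⊆ X2`
  have hMX : ∀ y : M, algebraMap M E y ∈ X2 := by
    intro y
    have h1 : IntermediateField.adjoin k ({x} : Set M) ≤
        (X2.restrictScalars k).comap (IsScalarTower.toAlgHom k M E) := by
      rw [IntermediateField.adjoin_simple_le_iff]
      exact hxX2
    have h2 : y ∈ IntermediateField.adjoin k ({x} : Set M) := by
      rw [hM]
      trivial
    exact h1 h2
  obtain ⟨hfinX, hgalX⟩ := isGalois_of_mem (M := M) X2 hMX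
  -- instances
  letI algXK : Algebra X2 K2 := (IntermediateField.inclusion hXK).toRingHom.toAlgebra
  haveI : IsScalarTower X2 K2 E := IsScalarTower.of_algebraMap_eq (fun _ => rfl)
  letI algKK2 : Algebra K K2 :=
    (RingHom.codRestrict (algebraMap K E) K2.toSubring hKK2).toAlgebra
  haveI : IsScalarTower k K K2 := IsScalarTower.of_algebraMap_eq (fun c => Subtype.ext (by
    show algebraMap k E c = algebraMap K E (algebraMap k K c)
    exact IsScalarTower.algebraMap_apply k K E c))
  -- the rank
  have hcar : ∀ z : E, z ∈ K2 ↔ z ∈ IntermediateField.adjoin K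
      ((algebraicClosure k E : IntermediateField k E) : Set E) := by
    intro z
    rw [hK2def, ← IntermediateField.mem_toSubfield, ← IntermediateField.mem_toSubfield,
      IntermediateField.adjoin_toSubfield, IntermediateField.adjoin_toSubfield, Set.union_comm]
    have : Set.range (algebraMap (algebraicClosure k E) E) =
        ((algebraicClosure k E : IntermediateField k E) : Set E) := Subtype.range_coe
    rw [this]
  let eK : K2 ≃ₗ[K] IntermediateField.adjoin K
      ((algebraicClosure k E : IntermediateField k E) : Set E) :=
    { toFun := fun z => ⟨z.1, (hcar z.1).1 z.2⟩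
      invFun := fun z => ⟨z.1, (hcar z.1).2 z.2⟩
      map_add' := fun _ _ => rfl
      map_smul' := fun c z => Subtype.ext (by
        show ((c • z : K2) : E) = ((c • (⟨z.1, (hcar z.1).1 z.2⟩ :
          IntermediateField.adjoin K
            ((algebraicClosure k E : IntermediateField k E) : Set E)) : _) : E)
        rw [IntermediateField.coe_smul, Algebra.smul_def, Algebra.smul_def]
        rfl)
      left_inv := fun _ => rfl
      right_inv := fun _ => rfl }
  have hrank : Module.finrank K K2 = Module.finrank k (algebraicClosure k E) := by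
    rw [eK.finrank_eq]
    exact rank_adjoin_eq hgK _
  have hz := numerZ_constExt' hrank hK hK2ff Finset.univ α hα
  have hmain := Groth.Agent.Lib.Helper34.RH.TowerRH.norm_sq_le_of_tower
    (k := algebraicClosure k E) (X := X2) (K := K2) (E := E) hX2ff hK2ff hE2 hgen
    (fun i => α i ^ Module.finrank k (algebraicClosure k E)) hz i
  -- arithmetic
  have hcard : (Nat.card (algebraicClosure k E) : ℝ) =
      (Nat.card k : ℝ) ^ Module.finrank k (algebraicClosure k E) := by
    rw [Module.natCard_eq_pow_finrank (K := k) (V := algebraicClosure k E)]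
    push_cast
    rfl
  rw [hcard, norm_pow, ← pow_mul, mul_comm, pow_mul] at hmain
  exact le_of_pow_le_pow_left₀ (Module.finrank_pos).ne' (by positivity) hmain

end main

section final

variable {k : Type u} {K : Type v} [Field k] [Field K] [Algebra k K] [Finite k]

theorem norm_sq_le_aux {M : Type v} [Field M] [Algebra k M] [Algebra M K] [IsScalarTower k M K]
    [FiniteDimensional M K] [Algebra.IsSeparable M K]
    (hK : IsFunctionField k K) (x : M) (hx : Transcendental k x)
    (hM : IntermediateField.adjoin k ({x} : Set M) = ⊤) {m : ℕ} (α : Fin m → ℂ)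
    (hα : PowerSeries.map (Int.castRingHom ℂ) (numerZ k K) =
      ((∏ i, (1 - Polynomial.C (α i) * Polynomial.X) : Polynomial ℂ) : PowerSeries ℂ))
    (i : Fin m) : ‖α i‖ ^ 2 ≤ (Nat.card k : ℝ) := by
  obtain ⟨E, _, _, _, _, hfin, hgal⟩ := exists_galois_closure M K
  letI : Algebra k E := ((algebraMap K E).comp (algebraMap k K)).toAlgebra
  haveI : IsScalarTower k K E := IsScalarTower.of_algebraMap_eq (fun _ => rfl)
  haveI : IsScalarTower k M E :=
    IsScalarTower.of_algebraMap_eq (fun c => by
      show algebraMap K E (algebraMap k K c) = _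
      rw [IsScalarTower.algebraMap_apply M K E, ← IsScalarTower.algebraMap_apply k M K])
  exact norm_sq_le_of_galois E hK x hx hM α hα i

/-- **Riemann hypothesis, upper bound**: the reciprocal roots of `L_K` have `|α|² ≤ q`. -/
theorem norm_sq_le (hK : IsFunctionField k K) {m : ℕ} (α : Fin m → ℂ)
    (hα : PowerSeries.map (Int.castRingHom ℂ) (numerZ k K) =
      ((∏ i, (1 - Polynomial.C (α i) * Polynomial.X) : Polynomial ℂ) : PowerSeries ℂ))
    (i : Fin m) : ‖α i‖ ^ 2 ≤ (Nat.card k : ℝ) := by
  have hg : IsGeometric k K := Groth.Agent.S11000.result k K hK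
  obtain ⟨t, ht, hsep⟩ := Groth.Agent.Lib.Helper97.FunFldSep.exists_sepVar hK hg
  haveI := Groth.Agent.Lib.Helper88.FF.finiteDimensional_adjoin_of_transcendental hK ht
  haveI := hsep
  have hgen : Transcendental k (IntermediateField.AdjoinSimple.gen k t) := by
    rw [← transcendental_algebraMap_iff
      (algebraMap (IntermediateField.adjoin k ({t} : Set K)) K).injective]
    exact ht
  exact norm_sq_le_aux (M := IntermediateField.adjoin k ({t} : Set K)) hK
    (IntermediateField.AdjoinSimple.gen k t) hgen (adjoin_gen_eq_top t) α hα i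

end final

end Groth.Agent.Lib.Helper34.RH.Reduce
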