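import Groth.Agent.Lib.Helper34.RH.Tower
import Groth.Agent.Lib.Helper34.RH.Bombieri
import Groth.Agent.S11006
import Groth.Agent.Lib.Helper34.RH.Genus

/-!
# The literal constant field extension `k' ⊗[k] Y` (helper34)

All the instances needed to apply the abstract counting theorem of `RH.Tower` to
`Y' = k' ⊗[k] Y`, `E' = k' ⊗[k] E`.
-/

set_option autoImplicit false

namespace Groth.Agent.Lib.Helper34.RH.Tensor

open FunFld TensorProduct

universe u

variable {k k' Y E : Type u} [Field k] [Field k'] [Algebra k k'] [Field Y] [Field E]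
  [Algebra k Y] [Algebra k E] [Algebra Y E] [IsScalarTower k Y E]

/-- The field structure on `k' ⊗[k] Y` when it is a field. -/
noncomputable scoped instance (priority := 2000) fieldT [h : Fact (IsField (k' ⊗[k] Y))] :
    Field (k' ⊗[k] Y) := h.out.toField

noncomputable scoped instance (priority := 50) algRight : Algebra Y (k' ⊗[k] Y) :=
  Algebra.TensorProduct.rightAlgebra

lemma algRight_apply (y : Y) : algebraMap Y (k' ⊗[k] Y) y = 1 ⊗ₜ y := rfl

/-- The map `k' ⊗ Y → k' ⊗ E`. -/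
noncomputable scoped instance (priority := 50) algTT : Algebra (k' ⊗[k] Y) (k' ⊗[k] E) :=
  (Algebra.TensorProduct.map (AlgHom.id k' k') (IsScalarTower.toAlgHom k Y E)).toRingHom.toAlgebra

lemma algTT_tmul (c : k') (y : Y) :
    algebraMap (k' ⊗[k] Y) (k' ⊗[k] E) (c ⊗ₜ y) = c ⊗ₜ (algebraMap Y E y) := by
  show (Algebra.TensorProduct.map (AlgHom.id k' k') (IsScalarTower.toAlgHom k Y E)) (c ⊗ₜ y) = _
  rw [Algebra.TensorProduct.map_tmul]
  rfl

noncomputable scoped instance (priority := 40) algYT : Algebra Y (k' ⊗[k] E) :=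
  ((algebraMap E (k' ⊗[k] E)).comp (algebraMap Y E)).toAlgebra

lemma algYT_apply (y : Y) : algebraMap Y (k' ⊗[k] E) y = 1 ⊗ₜ (algebraMap Y E y) := rfl

scoped instance towerYET : IsScalarTower Y E (k' ⊗[k] E) :=
  IsScalarTower.of_algebraMap_eq (fun _ => rfl)

scoped instance towerYTT : IsScalarTower Y (k' ⊗[k] Y) (k' ⊗[k] E) :=
  IsScalarTower.of_algebraMap_eq (fun y => by
    rw [algRight_apply, algTT_tmul, algYT_apply])

scoped instance towerkTT : IsScalarTower k' (k' ⊗[k] Y) (k' ⊗[k] E) :=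
  IsScalarTower.of_algebraMap_eq (fun c => by
    rw [Algebra.TensorProduct.algebraMap_apply, Algebra.TensorProduct.algebraMap_apply,
      algTT_tmul, map_one])

/-- `[k' ⊗ Y : Y] = [k' : k]`. -/
lemma finrank_right : Module.finrank Y (k' ⊗[k] Y) = Module.finrank k k' := by
  let e : (k' ⊗[k] Y) ≃ₗ[Y] (Y ⊗[k] k') :=
    { (Algebra.TensorProduct.comm k k' Y).toLinearEquiv with
      map_smul' := fun y t => by
        show (Algebra.TensorProduct.comm k k' Y) (y • t) = y • (Algebra.TensorProduct.comm k k' Y) t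
        rw [Algebra.smul_def, map_mul, algRight_apply, Algebra.TensorProduct.comm_tmul,
          Algebra.smul_def, Algebra.TensorProduct.algebraMap_apply]
        rfl }
  rw [e.finrank_eq, Module.finrank_baseChange]

section frob

variable (Y) in
/-- The automorphism `τ ⊗ 1` of `k' ⊗ Y`. -/
noncomputable def phi (τ : k' ≃ₐ[k] k') : (k' ⊗[k] Y) ≃+* (k' ⊗[k] Y) :=
  (Algebra.TensorProduct.congr τ (AlgEquiv.refl : Y ≃ₐ[k] Y)).toRingEquiv

lemma phi_tmul (τ : k' ≃ₐ[k] k') (c : k') (y : Y) : phi Y τ (c ⊗ₜ y) = τ c ⊗ₜ y := by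
  show (Algebra.TensorProduct.congr τ (AlgEquiv.refl : Y ≃ₐ[k] Y)) (c ⊗ₜ y) = _
  rw [Algebra.TensorProduct.congr_apply, Algebra.TensorProduct.map_tmul]
  rfl

lemma phi_comm (τ : k' ≃ₐ[k] k') (t : k' ⊗[k] Y) :
    phi E τ (algebraMap (k' ⊗[k] Y) (k' ⊗[k] E) t) =
      algebraMap (k' ⊗[k] Y) (k' ⊗[k] E) (phi Y τ t) := by
  induction t using TensorProduct.induction_on with
  | zero => simp
  | tmul c y => rw [algTT_tmul, phi_tmul, phi_tmul, algTT_tmul]
  | add x y hx hy => rw [map_add, map_add, hx, hy, map_add, map_add]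

/-- The automorphism `1 ⊗ σ` of `k' ⊗ E`. -/
noncomputable def A (σ : E ≃ₐ[k] E) : (k' ⊗[k] E) ≃ₐ[k'] (k' ⊗[k] E) :=
  Algebra.TensorProduct.congr (AlgEquiv.refl : k' ≃ₐ[k'] k') σ

lemma A_tmul (σ : E ≃ₐ[k] E) (c : k') (e : E) :
    A (k' := k') σ (c ⊗ₜ e) = c ⊗ₜ σ e := by
  show (Algebra.TensorProduct.congr (AlgEquiv.refl : k' ≃ₐ[k'] k') σ) (c ⊗ₜ e) = _
  rw [Algebra.TensorProduct.congr_apply, Algebra.TensorProduct.map_tmul]
  rfl

lemma A_comm (σ : E ≃ₐ[Y] E) (t : k' ⊗[k] Y) :
    A (k' := k') (σ.restrictScalars k) (algebraMap (k' ⊗[k] Y) (k' ⊗[k] E) t) =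
      algebraMap (k' ⊗[k] Y) (k' ⊗[k] E) t := by
  induction t using TensorProduct.induction_on with
  | zero => simp
  | tmul c y =>
    rw [algTT_tmul, A_tmul]
    congr 1
    exact σ.commutes y
  | add x y hx hy => rw [map_add, map_add, hx, hy]

/-- `1 ⊗ σ` as an automorphism over `k' ⊗ Y`. -/
noncomputable def aY (σ : E ≃ₐ[Y] E) : (k' ⊗[k] E) ≃ₐ[k' ⊗[k] Y] (k' ⊗[k] E) :=
  AlgEquiv.ofRingEquiv (f := (A (k' := k') (σ.restrictScalars k)).toRingEquiv) (A_comm σ)

lemma aY_apply (σ : E ≃ₐ[Y] E) (t : k' ⊗[k] E) :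
    aY (k' := k') σ t = A (k' := k') (σ.restrictScalars k) t := rfl

end frob

section ff

variable [FiniteDimensional k k'] [hF : Fact (IsField (k' ⊗[k] Y))]

lemma productMap_bijective :
    Function.Bijective (Algebra.TensorProduct.productMap
      (IsScalarTower.toAlgHom k k' (k' ⊗[k] Y)) (IsScalarTower.toAlgHom k Y (k' ⊗[k] Y))) := by
  have : ⇑(Algebra.TensorProduct.productMap
      (IsScalarTower.toAlgHom k k' (k' ⊗[k] Y)) (IsScalarTower.toAlgHom k Y (k' ⊗[k] Y))) = id := by
    funext t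
    induction t using TensorProduct.induction_on with
    | zero => simp
    | tmul c y =>
      rw [Algebra.TensorProduct.productMap_apply_tmul]
      show algebraMap k' (k' ⊗[k] Y) c * algebraMap Y (k' ⊗[k] Y) y = _
      rw [Algebra.TensorProduct.algebraMap_apply, algRight_apply,
        Algebra.TensorProduct.tmul_mul_tmul, mul_one, one_mul]
      rfl
    | add x y hx hy => rw [map_add, hx, hy]; rfl
  rw [this]
  exact Function.bijective_id

theorem isFunctionField_T (hY : IsFunctionField k Y) (hg : IsGeometric k Y) :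
    IsFunctionField k' (k' ⊗[k] Y) ∧ IsGeometric k' (k' ⊗[k] Y) :=
  Groth.Agent.S11006.result k k' Y (k' ⊗[k] Y) productMap_bijective hY hg

end ff

section pair

open Groth.Agent.Lib.Helper34.FunFldZetaLog

variable [Finite k] [Finite k'] [hFE : Fact (IsField (k' ⊗[k] E))]

/-- The number of places of degree one of `k' ⊗ E` fixed by `(1 ⊗ σ) ∘ (τ ⊗ 1)`. -/
noncomputable def Fix (τ : k' ≃ₐ[k] k') (σ : E ≃ₐ[k] E) : ℕ :=
  Nat.card {R : Place k' (k' ⊗[k] E) //
    R.deg = 1 ∧ ∀ z, R.1 (A (k' := k') σ (phi E τ z)) = R.1 z}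

theorem sum_fix [hFY : Fact (IsField (k' ⊗[k] Y))] [FiniteDimensional Y E] [IsGalois Y E]
    (hY : IsFunctionField k Y) (hgY : IsGeometric k Y) (hE : IsFunctionField k E)
    (hgE : IsGeometric k E) {n f : ℕ} (hn : 0 < n) (hN : Module.finrank k k' = n * f)
    (hf : ∀ j, 0 < j → j ≤ Module.finrank Y E → j ∣ f)
    (τ : k' ≃ₐ[k] k') (hτ : ∀ c, τ c = c ^ (Nat.card k ^ n)) :
    ∑ σ : E ≃ₐ[Y] E, Fix τ (σ.restrictScalars k) = Module.finrank Y E * Nr hY n := by
  haveI : FiniteDimensional k k' := Module.Finite.of_finite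
  have hNpos : 0 < Module.finrank k k' := Module.finrank_pos
  haveI : FiniteDimensional E (k' ⊗[k] E) :=
    Module.finite_of_finrank_pos (by rw [finrank_right]; exact hNpos)
  haveI : FiniteDimensional Y (k' ⊗[k] Y) :=
    Module.finite_of_finrank_pos (by rw [finrank_right]; exact hNpos)
  haveI : FiniteDimensional Y (k' ⊗[k] E) := Module.Finite.trans E (k' ⊗[k] E)
  haveI : FiniteDimensional (k' ⊗[k] Y) (k' ⊗[k] E) :=
    Module.Finite.of_restrictScalars_finite Y (k' ⊗[k] Y) (k' ⊗[k] E)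
  have h := Groth.Agent.Lib.Helper34.RH.Tower.sum_card_fixed (k := k) (k' := k') (Y := Y) (E := E)
    (Y' := k' ⊗[k] Y) (E' := k' ⊗[k] E) finrank_right finrank_right hY hE
    (isFunctionField_T hY hgY).1 (isFunctionField_T hE hgE).1 hn hN hf (phi E τ) (phi Y τ)
    (phi_comm τ)
    (fun c => by
      rw [Algebra.TensorProduct.algebraMap_apply, phi_tmul, hτ,
        Algebra.TensorProduct.algebraMap_apply]
      rfl)
    (fun y => by rw [algRight_apply, phi_tmul, map_one])
    (aY (k' := k')) (fun σ e => by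
      rw [aY_apply, algRight_apply, A_tmul]
      rfl)
  exact h

end pair

section bound

variable [Finite k] [Finite k'] [hFE : Fact (IsField (k' ⊗[k] E))]

theorem isConstExt_T : IsConstExt k E k' (k' ⊗[k] E) := by
  refine ⟨fun c => ?_, ?_, finrank_right⟩
  · rw [← IsScalarTower.algebraMap_apply k E (k' ⊗[k] E),
      ← IsScalarTower.algebraMap_apply k k' (k' ⊗[k] E)]
  · rw [eq_top_iff]
    intro t _
    clear * - t
    induction t using TensorProduct.induction_on with
    | zero => exact Subalgebra.zero_mem _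
    | tmul c e =>
      have h1 : (c ⊗ₜ[k] e : k' ⊗[k] E) = e • algebraMap k' (k' ⊗[k] E) c := by
        rw [Algebra.smul_def, algRight_apply, Algebra.TensorProduct.algebraMap_apply,
          Algebra.TensorProduct.tmul_mul_tmul, one_mul, mul_one]
        rfl
      rw [h1]
      exact Subalgebra.smul_mem _ (Algebra.subset_adjoin (Set.mem_range_self c)) e
    | add x y hx hy => exact Subalgebra.add_mem _ hx hy

theorem genus_T (hE : IsFunctionField k E) (hgE : IsGeometric k E) :
    genus k' (k' ⊗[k] E) = genus k E := by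
  haveI : FiniteDimensional k k' := Module.Finite.of_finite
  exact Groth.Agent.Lib.Helper34.RH.Genus.genus_constExt hE (isFunctionField_T hE hgE).1
    isConstExt_T

/-- **Bombieri's bound** for the twisted Frobenius fixed places. -/
theorem fix_le (hE : IsFunctionField k E) (hgE : IsGeometric k E) (p : ℕ) [Fact p.Prime]
    [CharP k p] (a : ℕ) {n : ℕ} (hqn : Nat.card k ^ n = p ^ (2 * a))
    (τ : k' ≃ₐ[k] k') (hτ : ∀ c, τ c = c ^ (Nat.card k ^ n)) (σ : E ≃ₐ[k] E)
    (hbig : (genus k E + 1) ^ 4 < p ^ (2 * a)) :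
    Fix τ σ ≤ p ^ (2 * a) + (2 * genus k E + 1) * p ^ a := by
  haveI : FiniteDimensional k k' := Module.Finite.of_finite
  haveI : CharP (k' ⊗[k] E) p :=
    charP_of_injective_algebraMap (algebraMap k (k' ⊗[k] E)).injective p
  have hg := genus_T (k' := k') hE hgE
  have h := Groth.Agent.Lib.Helper34.RH.Bombieri.card_fixed_le (k := k') (F := k' ⊗[k] E)
    (isFunctionField_T hE hgE).1 p a ((phi E τ).trans (A (k' := k') σ).toRingEquiv)
    (fun c => by
      rw [RingEquiv.trans_apply, Algebra.TensorProduct.algebraMap_apply, phi_tmul, hτ, hqn]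
      show A (k' := k') σ _ = _
      rw [A_tmul, map_one]
      rfl)
    (by rw [hg]; exact hbig)
  rw [hg] at h
  exact h

end bound

example : IsScalarTower k Y (k' ⊗[k] Y) := inferInstance
example : IsScalarTower k k' (k' ⊗[k] Y) := inferInstance
example : IsScalarTower k E (k' ⊗[k] E) := inferInstance
example [Fact (IsField (k' ⊗[k] Y))] [Fact (IsField (k' ⊗[k] E))] [Finite k] [Finite k'] (hY : IsFunctionField k' (k' ⊗[k] Y)) : True := trivial

end Groth.Agent.Lib.Helper34.RH.Tensor
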