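import Groth.Agent.Lib.Helper34.RH.FixedY

/-!
# Twisted Frobenius counting in a constant field extension of a Galois extension (helper34)

`E/Y` a finite Galois extension of function fields over the finite field `k`, `k'/k` of degree
`N = n f` with `f` divisible by all `j ≤ [E : Y]`, `Y' = k' Y`, `E' = k' E`.  Then
`∑_{σ ∈ Gal(E/Y)} #{R : deg R = 1, R ∘ (1 ⊗ σ) ∘ φ = R} = [E : Y] · N_n(Y)`.
-/

set_option autoImplicit false

namespace Groth.Agent.Lib.Helper34.RH.Tower

open FunFld WithZero Groth.Agent.Lib.Helper88 Groth.Agent.Lib.Helper88.FF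
  Groth.Agent.Lib.Helper44.FFExt Groth.Agent.Lib.Helper34.FunFldIntFin
  Groth.Agent.Lib.Helper34.FunFldConstFin Groth.Agent.Lib.Helper34.FunFldZetaLog
  Groth.Agent.Lib.Helper34.RH.Count Groth.Agent.Lib.Helper34.RH.FixedY

variable {k k' Y E Y' E' : Type*} [Field k] [Field k'] [Field Y] [Field E] [Field Y'] [Field E']
  [Algebra k k'] [Algebra k Y] [Algebra k E] [Algebra Y E] [IsScalarTower k Y E]
  [Algebra k' Y'] [Algebra Y Y'] [Algebra k Y'] [IsScalarTower k k' Y'] [IsScalarTower k Y Y']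
  [Algebra k' E'] [Algebra E E'] [Algebra k E'] [IsScalarTower k k' E'] [IsScalarTower k E E']
  [Algebra Y' E'] [IsScalarTower k' Y' E']
  [Algebra Y E'] [IsScalarTower Y Y' E'] [IsScalarTower Y E E']
  [Finite k] [Finite k'] [FiniteDimensional Y E] [FiniteDimensional E E'] [FiniteDimensional Y Y']

section degone

/-- Places of `E'` above a place of `Y'` lying over a place of `Y` of degree dividing `n` have
degree one. -/
theorem deg_one_of_isOver (hrankE : Module.finrank E E' = Module.finrank k k')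
    (hY : IsFunctionField k Y) (hE : IsFunctionField k E)
    {n f : ℕ} (hN : Module.finrank k k' = n * f)
    (hf : ∀ j, 0 < j → j ≤ Module.finrank Y E → j ∣ f)
    (P' : Place k' Y') (hd : (below (k := k) (K := Y) P').deg ∣ n) (R : Place k' E')
    (hR : IsOver R P') : R.deg = 1 := by
  classical
  haveI : FiniteDimensional k k' := Module.Finite.of_finite
  have hNpos : 0 < Module.finrank k k' := Module.finrank_pos
  haveI : Algebra.IsAlgebraic Y E := Algebra.IsAlgebraic.of_finite Y E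
  obtain ⟨P, hPdef⟩ : ∃ P : Place k Y, P = below (k := k) (K := Y) P' := ⟨_, rfl⟩
  rw [← hPdef] at hd
  have hP : IsOver (toK (k := k) P') P := by rw [hPdef]; exact below_spec P'
  have hR0 := below_spec (k := k) (K := E) R
  obtain ⟨R0, hR0def⟩ : ∃ R0 : Place k E, R0 = below (k := k) (K := E) R := ⟨_, rfl⟩
  rw [← hR0def] at hR0
  obtain ⟨P2, hP2⟩ := exists_isOver_below (K := Y) R0
  -- `P2 = P`
  have hPP : P2 = P := by
    obtain ⟨e1, he1⟩ := hR0
    obtain ⟨e2, he2⟩ := hP2
    obtain ⟨e3, he3⟩ := hR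
    obtain ⟨e4, he4⟩ := hP
    have h1 : IsOver (K := Y) (toK (k := k) R) P2 := by
      refine ⟨e2 * e1, fun x => ?_⟩
      rw [IsScalarTower.algebraMap_apply Y E E', he1, he2, ← pow_mul]
    have h2 : IsOver (K := Y) (toK (k := k) R) P := by
      refine ⟨e4 * e3, fun x => ?_⟩
      rw [IsScalarTower.algebraMap_apply Y Y' E']
      show R.1 (algebraMap Y' E' (algebraMap Y Y' x)) = _
      rw [he3]
      have := he4 x
      rw [show (toK (k := k) P').1 = P'.1 from rfl] at this
      rw [this, ← pow_mul]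
    exact isOver_unique_below h1 h2
  rw [hPP] at hP2
  -- the degree of `R0`
  have hd1 : P.deg ∣ R0.deg := deg_dvd_of_isOver hP2
  have hd2 : R0.deg ≤ Module.finrank Y E * P.deg := by
    have hsum := sum_ramIdx_mul_deg hY P (Qs (K' := E) hY P) (mem_Qs hY P)
    have hmem : R0 ∈ Qs (K' := E) hY P := (mem_Qs hY P R0).2 hP2
    have h1 : ramIdx R0 P * R0.deg ≤ ∑ Q ∈ Qs (K' := E) hY P, ramIdx Q P * Q.deg :=
      Finset.single_le_sum (f := fun Q => ramIdx Q P * Q.deg) (fun _ _ => Nat.zero_le _) hmem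
    rw [hsum] at h1
    calc R0.deg = 1 * R0.deg := (one_mul _).symm
      _ ≤ ramIdx R0 P * R0.deg := Nat.mul_le_mul_right _ (ramIdx_pos hP2)
      _ ≤ _ := h1
  have hPpos : 0 < P.deg := deg_pos hY P
  have hR0pos : 0 < R0.deg := deg_pos hE R0
  obtain ⟨f0, hf0⟩ := hd1
  have hf0pos : 0 < f0 := by
    rcases Nat.eq_zero_or_pos f0 with h | h
    · rw [h, mul_zero] at hf0
      omega
    · exact h
  have hf0le : f0 ≤ Module.finrank Y E := by
    rw [hf0, mul_comm] at hd2
    exact Nat.le_of_mul_le_mul_right hd2 hPpos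
  have hdvd : R0.deg ∣ Module.finrank k k' := by
    rw [hf0, hN]
    exact Nat.mul_dvd_mul hd (hf f0 hf0pos hf0le)
  have h3 := deg_eq_lcm hrankE hE R0 (toK (k := k) R) hR0
  rw [Nat.lcm_eq_right hdvd, deg_toK] at h3
  have h4 : Module.finrank k k' * R.deg = Module.finrank k k' * 1 := by rw [h3, mul_one]
  exact Nat.eq_of_mul_eq_mul_left hNpos h4

end degone

section galois

variable [IsGalois Y E] [FiniteDimensional Y' E']

omit [IsScalarTower k Y E] [Algebra k' Y'] [Algebra k Y'] [IsScalarTower k k' Y']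
  [IsScalarTower k Y Y'] [Algebra k' E'] [Algebra k E'] [IsScalarTower k k' E']
  [IsScalarTower k E E'] [IsScalarTower k' Y' E'] [Finite k] [Finite k'] [IsGalois Y E] in
lemma finrank_eq (hrankE : Module.finrank E E' = Module.finrank k k')
    (hrankY : Module.finrank Y Y' = Module.finrank k k') :
    Module.finrank Y' E' = Module.finrank Y E := by
  have h1 := Module.finrank_mul_finrank Y Y' E'
  have h2 := Module.finrank_mul_finrank Y E E'
  rw [hrankY] at h1
  rw [hrankE, ← h1, mul_comm] at h2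
  have hpos : 0 < Module.finrank k k' := by
    rw [← hrankE]
    exact Module.finrank_pos
  exact (Nat.eq_of_mul_eq_mul_left hpos h2).symm

omit [IsScalarTower k Y E] [Algebra k' Y'] [Algebra k Y'] [IsScalarTower k k' Y']
  [IsScalarTower k Y Y'] [Algebra k' E'] [Algebra k E'] [IsScalarTower k k' E']
  [IsScalarTower k E E'] [IsScalarTower k' Y' E'] [Finite k] [Finite k'] in
/-- The extension `E'/Y'` is Galois with group `Gal(E/Y)`. -/
theorem isGalois_and_bijective (hrankE : Module.finrank E E' = Module.finrank k k')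
    (hrankY : Module.finrank Y Y' = Module.finrank k k')
    (a : (E ≃ₐ[Y] E) → (E' ≃ₐ[Y'] E'))
    (ha : ∀ σ e, a σ (algebraMap E E' e) = algebraMap E E' (σ e)) :
    IsGalois Y' E' ∧ Function.Bijective a := by
  have hinj : Function.Injective a := by
    intro σ τ h
    ext e
    apply (algebraMap E E').injective
    rw [← ha, ← ha, h]
  have h1 : Nat.card (E ≃ₐ[Y] E) = Module.finrank Y E := IsGalois.card_aut_eq_finrank Y E
  have h2 : Nat.card (E' ≃ₐ[Y'] E') ≤ Module.finrank Y' E' := by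
    rw [Nat.card_eq_fintype_card]
    exact AlgEquiv.card_le
  have h3 : Nat.card (E ≃ₐ[Y] E) ≤ Nat.card (E' ≃ₐ[Y'] E') :=
    Nat.card_le_card_of_injective a hinj
  have h4 : Nat.card (E' ≃ₐ[Y'] E') = Module.finrank Y' E' :=
    le_antisymm h2 (by rw [finrank_eq (k := k) (k' := k') hrankE hrankY, ← h1]; exact h3)
  refine ⟨IsGalois.of_card_aut_eq_finrank Y' E' h4, hinj.bijective_of_nat_card_le ?_⟩
  rw [h4, finrank_eq (k := k) (k' := k') hrankE hrankY, h1]

/-- **Counting twisted-Frobenius fixed places.** -/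
theorem sum_card_fixed (hrankE : Module.finrank E E' = Module.finrank k k')
    (hrankY : Module.finrank Y Y' = Module.finrank k k')
    (hY : IsFunctionField k Y) (hE : IsFunctionField k E)
    (hY' : IsFunctionField k' Y') (hE' : IsFunctionField k' E')
    {n f : ℕ} (hn : 0 < n) (hN : Module.finrank k k' = n * f)
    (hf : ∀ j, 0 < j → j ≤ Module.finrank Y E → j ∣ f)
    (φ : E' ≃+* E') (φY : Y' ≃+* Y')
    (hφY : ∀ y, φ (algebraMap Y' E' y) = algebraMap Y' E' (φY y))
    (hφ1 : ∀ c : k', φY (algebraMap k' Y' c) = algebraMap k' Y' (c ^ (Nat.card k ^ n)))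
    (hφ2 : ∀ y : Y, φY (algebraMap Y Y' y) = algebraMap Y Y' y)
    (a : (E ≃ₐ[Y] E) → (E' ≃ₐ[Y'] E'))
    (ha : ∀ σ e, a σ (algebraMap E E' e) = algebraMap E E' (σ e)) :
    ∑ σ : E ≃ₐ[Y] E,
        Nat.card {R : Place k' E' // R.deg = 1 ∧ ∀ z, R.1 (a σ (φ z)) = R.1 z} =
      Module.finrank Y E * Nr hY n := by
  classical
  obtain ⟨hgal, hbij⟩ := isGalois_and_bijective (k := k) (k' := k') hrankE hrankY a ha
  haveI := hgal
  have hφc : ∀ c : k', ∃ c' : k', φ (algebraMap k' E' c) = algebraMap k' E' c' := by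
    intro c
    refine ⟨c ^ (Nat.card k ^ n), ?_⟩
    rw [IsScalarTower.algebraMap_apply k' Y' E', hφY, hφ1, ← IsScalarTower.algebraMap_apply]
  have H1 : ∀ (P' : Place k' Y') (R : Place k' E'), P'.deg = 1 →
      (∀ y, P'.1 (φY y) = P'.1 y) → IsOver R P' → R.deg = 1 := by
    intro P' R hdeg hfix hR
    exact deg_one_of_isOver hrankE hY hE hN hf P'
      (deg_dvd_of_fixed φY hφ1 hφ2 hY P' hdeg hfix) R hR
  have hpairs := card_fixed_pairs hY' hE' φ φY hφc hφY H1
  rw [card_fixed φY hφ1 hφ2 hrankY hY hY' hn (Dvd.intro f hN.symm),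
    finrank_eq (k := k) (k' := k') hrankE hrankY] at hpairs
  rw [← hpairs]
  -- finiteness of the fibres
  haveI hfinE : Finite {R : Place k' E' // R.deg = 1} :=
    (Groth.Agent.Lib.Helper91.FunFldFin.finite_places_deg_eq hE' 1).to_subtype
  haveI : ∀ τ : E' ≃ₐ[Y'] E',
      Finite {R : Place k' E' // R.deg = 1 ∧ ∀ z, R.1 (τ (φ z)) = R.1 z} := by
    intro τ
    have : Function.Injective (fun R : {R : Place k' E' // R.deg = 1 ∧ ∀ z, R.1 (τ (φ z)) = R.1 z} =>
        (⟨R.1, R.2.1⟩ : {R : Place k' E' // R.deg = 1})) := by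
      intro R₁ R₂ h
      exact Subtype.ext (congrArg (fun R : {R : Place k' E' // R.deg = 1} => R.1) h)
    exact Finite.of_injective _ this
  rw [Nat.card_congr (Equiv.subtypeProdEquivSigmaSubtype
    (fun (τ : E' ≃ₐ[Y'] E') (R : Place k' E') => R.deg = 1 ∧ ∀ z, R.1 (τ (φ z)) = R.1 z)),
    Nat.card_sigma]
  exact Equiv.sum_comp (Equiv.ofBijective a hbij)
    (fun τ => Nat.card {R : Place k' E' // R.deg = 1 ∧ ∀ z, R.1 (τ (φ z)) = R.1 z})

end galois

end Groth.Agent.Lib.Helper34.RH.Tower
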