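import Groth.Agent.Lib.Helper34.RH.Core
import Groth.Agent.Lib.Helper34.RH.Analytic

/-!
# The Riemann hypothesis (upper bound) for a subfield of a Galois extension of a rational
function field (helper34)
-/

set_option autoImplicit false

namespace Groth.Agent.Lib.Helper34.RH.TowerRH

open FunFld Groth.Agent.Lib.Helper34.FunFldZetaLog Groth.Agent.Lib.Helper34.FunFldZetaLog2
  Groth.Agent.Lib.Helper34.RH.Core Groth.Agent.Lib.Helper34.RH.Analytic

section rational

variable {k X : Type*} [Field k] [Field X] [Algebra k X] [Finite k]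

/-- In genus zero `N_n = q^n + 1`. -/
theorem Nr_rational (hX : IsFunctionField k X) (hg : genus k X = 0) (n : ℕ) (hn : 0 < n) :
    Nr hX n = Nat.card k ^ n + 1 := by
  obtain ⟨α, -, hα, -⟩ := Groth.Agent.S11040.result k X hX
  have h := Nr_formula hX Finset.univ α hα hn
  haveI : IsEmpty (Fin (2 * genus k X)) := by
    rw [hg]
    exact Fin.isEmpty'
  rw [Finset.univ_eq_empty, Finset.sum_empty, sub_zero] at h
  have h2 : ((Nr hX n : ℕ) : ℂ) = ((Nat.card k ^ n + 1 : ℕ) : ℂ) := by
    rw [h]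
    push_cast
    ring
  exact_mod_cast h2

end rational

section tower

universe u

variable {k X K E : Type u} [Field k] [Field X] [Field K] [Field E]
  [Algebra k X] [Algebra k K] [Algebra k E] [Algebra X K] [Algebra X E] [Algebra K E]
  [IsScalarTower k X E] [IsScalarTower k K E] [IsScalarTower X K E]
  [Finite k] [FiniteDimensional X E] [IsGalois X E]

theorem norm_sq_le_of_tower (hX : IsFunctionField k X) (hK : IsFunctionField k K)
    (hE : IsFunctionField k E) (hgX : genus k X = 0) {m : ℕ} (α : Fin m → ℂ)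
    (hα : PowerSeries.map (Int.castRingHom ℂ) (numerZ k K) =
      ((∏ i, (1 - Polynomial.C (α i) * Polynomial.X) : Polynomial ℂ) : PowerSeries ℂ))
    (i : Fin m) : ‖α i‖ ^ 2 ≤ (Nat.card k : ℝ) := by
  obtain ⟨C, m0, hC⟩ := Nr_bound hX hK hE (Nr_rational hX hgX)
  have hq : (0 : ℝ) < (Nat.card k : ℝ) := by
    have : 0 < Nat.card k := Nat.card_pos
    exact_mod_cast this
  refine norm_sq_le_of_even_power_sums_bounded α (Nat.card k : ℝ) hq C (max m0 1) ?_ i
  intro j hj
  have hj0 : m0 ≤ j := (le_max_left _ _).trans hj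
  have hj1 : 1 ≤ j := (le_max_right _ _).trans hj
  have h := Nr_formula hK Finset.univ α hα (r := 2 * j) (by omega)
  have h2 : ∑ i, α i ^ (2 * j) =
      ((1 + (Nat.card k : ℝ) ^ (2 * j) - (Nr hK (2 * j) : ℝ) : ℝ) : ℂ) := by
    push_cast
    rw [h]
    ring
  rw [h2, Complex.norm_real, Real.norm_eq_abs]
  have h3 := hC j hj0
  rw [abs_sub_comm] at h3
  have h4 : (1 + (Nat.card k : ℝ) ^ (2 * j) - (Nr hK (2 * j) : ℝ)) =
      1 - ((Nr hK (2 * j) : ℝ) - (Nat.card k : ℝ) ^ (2 * j)) := by ring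
  rw [h4]
  exact h3

end tower

end Groth.Agent.Lib.Helper34.RH.TowerRH
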